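import Mathlib
import Groth.Prelude.Def_DDual2
import Groth.Agent.Lib.Helper1.TorL
import Groth.Agent.Lib.Helper5.TorAmp.FlatAcyc
import Groth.Agent.Lib.Helper5.KProj.LBC

/-!
# Tor-acyclic modules and base change of quasi-isomorphisms (helper5)

`TA M X`: `Tor_p(X, M) = 0` for `p ≥ 1`.  A quasi-isomorphism between bounded above complexes
with `M`-acyclic terms stays a quasi-isomorphism after `- ⊗ M`; hence after extension of scalars
along `ρ : R → R'` when `M = R'`.
-/

set_option autoImplicit false
universe u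
open CategoryTheory Limits MonoidalCategory

namespace Groth.Agent.Lib.Helper5.TBC
open Groth.Agent.Helper1.TorL Groth.Agent.Helper5.FlatAcyc Groth.Agent.Lib.Helper5.KProj

section TA

variable {R : Type u} [CommRing R] (M : ModuleCat.{u} R)

/-- `X` is Tor-acyclic against `M`: `Tor_p(X, M) = 0` for `p ≥ 1` -/
def TA (X : ModuleCat.{u} R) : Prop := ∀ n : ℕ, IsZero (T (n + 1) X M)

theorem TA.of_iso {X X' : ModuleCat.{u} R} (e : X ≅ X') (h : TA M X) : TA M X' :=
  fun n => (h n).of_iso (torCongrLeft e M (n + 1)).symm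

theorem TA.of_flat (X : ModuleCat.{u} R) [Module.Flat R X] : TA M X :=
  fun n => isZero_tor_succ_of_flat X M n

theorem TA.of_isZero (X : ModuleCat.{u} R) (h : IsZero X) : TA M X := by
  haveI : Subsingleton X := ModuleCat.subsingleton_of_isZero h
  exact TA.of_flat M X

theorem TA.X₁ (S : ShortComplex (ModuleCat.{u} R)) (hS : S.ShortExact) (h₂ : TA M S.X₂)
    (h₃ : TA M S.X₃) : TA M S.X₁ :=
  fun n => isZero_tor_X₁ S hS M (n + 1) (h₃ (n + 1)) (h₂ n)

theorem TA.X₂ (S : ShortComplex (ModuleCat.{u} R)) (hS : S.ShortExact) (h₁ : TA M S.X₁)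
    (h₃ : TA M S.X₃) : TA M S.X₂ :=
  fun n => isZero_tor_X₂ S hS M (n + 1) (h₁ n) (h₃ n)

theorem TA.rTensor_injective (S : ShortComplex (ModuleCat.{u} R)) (hS : S.ShortExact)
    (h₂ : TA M S.X₂) (h₃ : TA M S.X₃) : Function.Injective (S.f.hom.rTensor M) :=
  (isZero_tor_one_X₃_iff S hS M (h₂ 0)).1 (h₃ 0)

section Lin

variable {A B C : Type u} [AddCommGroup A] [Module R A] [AddCommGroup B] [Module R B]
  [AddCommGroup C] [Module R C]

theorem ta_ker (g : A →ₗ[R] B) (hg : Function.Surjective g) (hA : TA M (ModuleCat.of R A))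
    (hB : TA M (ModuleCat.of R B)) : TA M (ModuleCat.of R (LinearMap.ker g)) :=
  TA.X₁ M _ (LinearMap.shortExact_shortComplexKer hg) hA hB

theorem ta_rTensor_subtype_injective (g : A →ₗ[R] B) (hg : Function.Surjective g)
    (hA : TA M (ModuleCat.of R A)) (hB : TA M (ModuleCat.of R B)) :
    Function.Injective ((LinearMap.ker g).subtype.rTensor M) :=
  TA.rTensor_injective M _ (LinearMap.shortExact_shortComplexKer hg) hA hB

theorem ta_ker_of_range (g : A →ₗ[R] B) (Z' : Submodule R B) (hZ : LinearMap.range g = Z')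
    (hA : TA M (ModuleCat.of R A)) (hZ' : TA M (ModuleCat.of R Z')) :
    TA M (ModuleCat.of R (LinearMap.ker g)) ∧
      Function.Injective ((LinearMap.ker g).subtype.rTensor M) := by
  subst hZ
  have hs : Function.Surjective g.rangeRestrict := g.surjective_rangeRestrict
  have hk : LinearMap.ker g.rangeRestrict = LinearMap.ker g := LinearMap.ker_rangeRestrict g
  rw [← hk]
  exact ⟨ta_ker M _ hs hA hZ', ta_rTensor_subtype_injective M _ hs hA hZ'⟩

theorem ta_prod (hA : TA M (ModuleCat.of R A)) (hB : TA M (ModuleCat.of R B)) :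
    TA M (ModuleCat.of R (A × B)) := by
  have hS : (ModuleCat.shortComplexOfCompEqZero (LinearMap.inl R A B) (LinearMap.snd R A B)
      (by ext x; simp)).ShortExact :=
    ModuleCat.shortComplex_shortExact _
      (by
        intro x
        constructor
        · intro h
          exact ⟨x.1, Prod.ext rfl (by simpa using h.symm)⟩
        · rintro ⟨a, rfl⟩
          simp)
      LinearMap.inl_injective LinearMap.snd_surjective
  exact TA.X₂ M _ hS hA hB

end Lin

/-- the cycle submodules of an acyclic bounded above complex with `M`-acyclic terms are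
`M`-acyclic -/
theorem ta_cycles (X : CochainComplex (ModuleCat.{u} R) ℤ) (hX : X.Acyclic)
    (hta : ∀ i, TA M (X.X i)) (b : ℤ) (hb : ∀ i, b < i → IsZero (X.X i)) :
    ∀ i : ℤ, TA M (ModuleCat.of R (LinearMap.ker (X.d i (i + 1)).hom)) := by
  have key : ∀ (n : ℕ) (i : ℤ), b < i + n →
      TA M (ModuleCat.of R (LinearMap.ker (X.d i (i + 1)).hom)) := by
    intro n
    induction n with
    | zero =>
      intro i hi
      have : Subsingleton (X.X i) := ModuleCat.subsingleton_of_isZero (hb i (by simpa using hi))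
      haveI : Module.Flat R (LinearMap.ker (X.d i (i + 1)).hom) := inferInstance
      exact TA.of_flat M _
    | succ n ih =>
      intro i hi
      have h1 := ih (i + 1) (by push_cast at hi; omega)
      have hex := exact_of_exactAt X i (i + 1) (i + 1 + 1) rfl rfl (hX _)
      exact (ta_ker_of_range M (X.d i (i + 1)).hom _
        (LinearMap.exact_iff.1 hex).symm (hta i) h1).1
  intro i
  exact key (b - i + 1).toNat i (by omega)

/-- a bounded above acyclic complex with `M`-acyclic terms stays acyclic after `- ⊗ M` -/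
theorem acyclic_tensor_ta (X : CochainComplex (ModuleCat.{u} R) ℤ) (hX : X.Acyclic)
    (hta : ∀ i, TA M (X.X i)) (b : ℤ) (hb : ∀ i, b < i → IsZero (X.X i)) :
    ((TM M).obj X).Acyclic := by
  intro j
  refine exactAt_of_exact _ (j - 1) j (j + 1) (by omega) rfl ?_
  rw [TM_d_hom, TM_d_hom]
  have hex := exact_of_exactAt X (j - 1) j (j + 1) (by omega) rfl (hX _)
  have hex1 := exact_of_exactAt X j (j + 1) (j + 1 + 1) rfl rfl (hX _)
  have hex2 := exact_of_exactAt X (j + 1) (j + 1 + 1) (j + 1 + 1 + 1) rfl rfl (hX _)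
  have h1 := ta_cycles M X hX hta b hb (j + 1 + 1)
  have hinj := (ta_ker_of_range M (X.d (j + 1) (j + 1 + 1)).hom _
        (LinearMap.exact_iff.1 hex2).symm (hta (j + 1)) h1).2
  exact rTensor_exact_of_range _ _ hex _ (LinearMap.exact_iff.1 hex1).symm M hinj

theorem ta_cone {P E : CochainComplex (ModuleCat.{u} R) ℤ} (f : P ⟶ E)
    (hP : ∀ i, TA M (P.X i)) (hE : ∀ i, TA M (E.X i)) (i : ℤ) :
    TA M ((CochainComplex.mappingCone f).X i) := by
  let e : (CochainComplex.mappingCone f).X i ≅ ModuleCat.of R (P.X (i+1) × E.X i) :=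
    HomologicalComplex.homotopyCofiber.XIsoBiprod f i (i + 1) rfl ≪≫ ModuleCat.biprodIsoProd _ _
  exact TA.of_iso M e.symm (ta_prod M (hP (i + 1)) (hE i))

attribute [local instance] HasDerivedCategory.standard in
/-- a quasi-isomorphism between bounded above complexes with `M`-acyclic terms stays a
quasi-isomorphism after `- ⊗ M` -/
theorem quasiIso_tensor_ta {P E : CochainComplex (ModuleCat.{u} R) ℤ} (f : P ⟶ E) (hf : QuasiIso f)
    (hP : ∀ i, TA M (P.X i)) (hE : ∀ i, TA M (E.X i)) (b : ℤ)
    (hPb : ∀ i, b < i → IsZero (P.X i)) (hEb : ∀ i, b < i → IsZero (E.X i)) :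
    QuasiIso ((TM M).map f) := by
  rw [quasiIso_iff_acyclic_cone] at hf ⊢
  have h1 := acyclic_tensor_ta M _ hf (ta_cone M f hP hE) b (fun i hi => by
    rw [CochainComplex.mappingCone.isZero_X_iff]
    exact ⟨hPb _ (by omega), hEb _ hi⟩)
  intro n
  exact (h1 n).of_iso (CochainComplex.mappingCone.mapHomologicalComplexIso f (tensorRight M))

end TA

section Ext

variable {R R' : Type u} [CommRing R] [CommRing R'] (ρ : R →+* R')

/-- `R'` as an `R`-module -/
noncomputable abbrev SR : ModuleCat.{u} R :=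
  (ModuleCat.restrictScalars ρ).obj (ModuleCat.of R' R')

/-- restriction of the extension of scalars is the tensor product with `R'` -/
noncomputable def extResLin (X : ModuleCat.{u} R) :
    ((ModuleCat.restrictScalars ρ).obj ((ModuleCat.extendScalars ρ).obj X)) ≃ₗ[R]
      ((SR ρ ⊗ X : ModuleCat.{u} R)) where
  toFun := fun x => x
  invFun := fun x => x
  left_inv := fun _ => rfl
  right_inv := fun _ => rfl
  map_add' := fun _ _ => rfl
  map_smul' := fun _ _ => rfl

noncomputable def extResIso :
    ModuleCat.extendScalars ρ ⋙ ModuleCat.restrictScalars ρ ≅ tensorLeft (SR ρ) :=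
  NatIso.ofComponents (fun X => (extResLin ρ X).toModuleIso) (by
    intro X Y f
    ext x
    rfl)

/-- the same with the tensor factor on the right -/
noncomputable def extResIso' :
    ModuleCat.extendScalars ρ ⋙ ModuleCat.restrictScalars ρ ≅ tensorRight (SR ρ) :=
  extResIso ρ ≪≫ BraidedCategory.tensorLeftIsoTensorRight (SR ρ)

/-- termwise restriction of complexes -/
noncomputable abbrev rsCx : DRing.Cx R' ⥤ DRing.Cx R :=
  (ModuleCat.restrictScalars.{u} ρ).mapHomologicalComplex (ComplexShape.up ℤ)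

theorem quasiIso_rsCx_map_iff {K L : DRing.Cx R'} (f : K ⟶ L) :
    QuasiIso ((rsCx ρ).map f) ↔ QuasiIso f :=
  HomologicalComplex.quasiIso_map_iff_of_preservesHomology f (ModuleCat.restrictScalars.{u} ρ)

/-- on complexes: restriction of the termwise extension is `- ⊗ R'` -/
noncomputable def extResCxIso : bcCx ρ ⋙ rsCx ρ ≅ TM (SR ρ) :=
  Functor.mapHomologicalComplexCompIso (extResIso' ρ) (ComplexShape.up ℤ)

/-- **bridge**: a quasi-isomorphism between bounded above complexes with `R'`-acyclic terms stays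
a quasi-isomorphism after extension of scalars to `R'` -/
theorem quasiIso_bcCx_of_ta {P E : DRing.Cx R} (f : P ⟶ E) (hf : QuasiIso f)
    (hP : ∀ i, TA (SR ρ) (P.X i)) (hE : ∀ i, TA (SR ρ) (E.X i)) (b : ℤ)
    (hPb : ∀ i, b < i → IsZero (P.X i)) (hEb : ∀ i, b < i → IsZero (E.X i)) :
    QuasiIso ((bcCx ρ).map f) := by
  rw [← quasiIso_rsCx_map_iff ρ]
  have h := quasiIso_tensor_ta (SR ρ) f hf hP hE b hPb hEb
  have hnat := (extResCxIso ρ).hom.naturality f
  have h2 : (rsCx ρ).map ((bcCx ρ).map f) =
      (extResCxIso ρ).hom.app P ≫ (TM (SR ρ)).map f ≫ (extResCxIso ρ).inv.app E := by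
    rw [← Category.assoc, ← hnat]
    simp
  rw [h2]
  infer_instance

end Ext

end Groth.Agent.Lib.Helper5.TBC
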