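import Mathlib
import Groth.Prelude.Def_TrivBC
import Groth.Agent.Lib.Helper5.Gen.GenMain
import Groth.Agent.Lib.Helper5.Gen.PerfMain
import Groth.Agent.Lib.Helper5.DTenLib.Base
import Groth.Agent.Lib.Helper5.TBC.TorAcyc
import Groth.Agent.Lib.Helper5.Shriek.RAdj

/-!
# The base change comparison `cmp` of `TrivBC` (helper5)

naturality, independence of the adjunctions, and an explicit description on K-projective
representatives for the derived adjunctions `myAdj`.
-/

set_option autoImplicit false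
universe u
open CategoryTheory CategoryTheory.Limits DerivedCategory MonoidalCategory
attribute [local instance] HasDerivedCategory.standard

namespace Groth.Agent.Lib.Helper5.TBC
open Groth.Agent.Lib.Helper5.DTenLib Helper5.Gen Groth.Agent.Lib.Helper5.KProj
  Groth.Agent.Helper3.AdjHtpyPlus

theorem coyExact_of_leftAdjoint {C D : Type*} [Category C] [Category D] [Preadditive C]
    [Preadditive D] [HasZeroObject C] [HasZeroObject D] [HasShift C ℤ] [HasShift D ℤ]
    [∀ n : ℤ, (shiftFunctor C n).Additive] [∀ n : ℤ, (shiftFunctor D n).Additive]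
    [Pretriangulated C] [Pretriangulated D] {F : C ⥤ D} {G : D ⥤ C} (adj : F ⊣ G)
    [G.CommShift ℤ] [G.IsTriangulated] : CoyExact F := by
  letI : F.CommShift ℤ := adj.leftAdjointCommShift ℤ
  haveI : adj.CommShift ℤ := adj.commShift_of_rightAdjoint ℤ
  haveI : F.IsTriangulated := adj.isTriangulated_leftAdjoint
  exact coyExact_of_isTriangulated F

section Square

variable {R A R' A' : Type u} [CommRing R] [CommRing A] [CommRing R'] [CommRing A']
  {φ : R →+* A} {ρ : R →+* R'} {α : A →+* A'} {φ' : R' →+* A'}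

/-- `cmp` as a natural transformation -/
noncomputable def cmpNat (adjρ : DRing.LBaseChange ρ ⊣ DRing.restrictD ρ)
    (adjα : DRing.LBaseChange α ⊣ DRing.restrictD α) (h : α.comp φ = φ'.comp ρ) :
    DRing.restrictD φ ⋙ DRing.LBaseChange ρ ⟶ DRing.LBaseChange α ⋙ DRing.restrictD φ' where
  app K := TrivBC.cmp adjρ adjα h K
  naturality K K' f := by
    have h1 : (DRing.restrictD φ).map f ≫ (DRing.restrictD φ).map (adjα.unit.app K') ≫
          (TrivBC.resComm h).hom.app ((DRing.LBaseChange α).obj K') =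
        ((DRing.restrictD φ).map (adjα.unit.app K) ≫
          (TrivBC.resComm h).hom.app ((DRing.LBaseChange α).obj K)) ≫
          (DRing.restrictD ρ).map ((DRing.restrictD φ').map ((DRing.LBaseChange α).map f)) := by
      have e1 := adjα.unit.naturality f
      have e2 := (TrivBC.resComm h).hom.naturality ((DRing.LBaseChange α).map f)
      dsimp at e1 e2
      rw [← Functor.map_comp_assoc, e1, Functor.map_comp_assoc, e2, Category.assoc]
    dsimp [TrivBC.cmp]
    rw [← Adjunction.homEquiv_naturality_left_symm, ← Adjunction.homEquiv_naturality_right_symm,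
      h1]

@[simp]
lemma cmpNat_app (adjρ : DRing.LBaseChange ρ ⊣ DRing.restrictD ρ)
    (adjα : DRing.LBaseChange α ⊣ DRing.restrictD α) (h : α.comp φ = φ'.comp ρ) (K : Dual.D A) :
    (cmpNat adjρ adjα h).app K = TrivBC.cmp adjρ adjα h K := rfl

/-- dependence of `cmp` on the adjunctions -/
theorem cmp_eq_of_adj (adjρ adjρ' : DRing.LBaseChange ρ ⊣ DRing.restrictD ρ)
    (adjα adjα' : DRing.LBaseChange α ⊣ DRing.restrictD α) (h : α.comp φ = φ'.comp ρ)
    (K : Dual.D A) :
    TrivBC.cmp adjρ' adjα' h K =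
      (adjρ'.leftAdjointUniq adjρ).hom.app _ ≫ TrivBC.cmp adjρ adjα h K ≫
        (DRing.restrictD φ').map ((adjα.leftAdjointUniq adjα').hom.app K) := by
  have e1 := Adjunction.unit_leftAdjointUniq_hom_app adjα adjα' K
  have e2 := (TrivBC.resComm h).hom.naturality ((adjα.leftAdjointUniq adjα').hom.app K)
  dsimp at e2
  have key : (DRing.restrictD φ).map (adjα'.unit.app K) ≫
        (TrivBC.resComm h).hom.app ((DRing.LBaseChange α).obj K) =
      ((DRing.restrictD φ).map (adjα.unit.app K) ≫
        (TrivBC.resComm h).hom.app ((DRing.LBaseChange α).obj K)) ≫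
        (DRing.restrictD ρ).map ((DRing.restrictD φ').map
          ((adjα.leftAdjointUniq adjα').hom.app K)) := by
    rw [← e1, Functor.map_comp, Category.assoc, e2, Category.assoc]
  have e3 := (adjρ'.leftAdjointUniq adjρ).hom.naturality
    ((DRing.restrictD φ).map (adjα.unit.app K) ≫
        (TrivBC.resComm h).hom.app ((DRing.LBaseChange α).obj K))
  dsimp [TrivBC.cmp]
  rw [key, Adjunction.homEquiv_naturality_right_symm, Adjunction.homEquiv_counit,
    Adjunction.homEquiv_counit, ← Adjunction.leftAdjointUniq_hom_app_counit adjρ' adjρ]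
  simp only [Category.assoc]
  rw [reassoc_of% e3]

theorem isIso_cmp_iff (adjρ adjρ' : DRing.LBaseChange ρ ⊣ DRing.restrictD ρ)
    (adjα adjα' : DRing.LBaseChange α ⊣ DRing.restrictD α) (h : α.comp φ = φ'.comp ρ)
    (K : Dual.D A) :
    IsIso (TrivBC.cmp adjρ' adjα' h K) ↔ IsIso (TrivBC.cmp adjρ adjα h K) := by
  rw [cmp_eq_of_adj adjρ adjρ' adjα adjα' h K]
  constructor
  · intro hh
    have h2 : IsIso (TrivBC.cmp adjρ adjα h K ≫
        (DRing.restrictD φ').map ((adjα.leftAdjointUniq adjα').hom.app K)) :=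
      IsIso.of_isIso_comp_left ((adjρ'.leftAdjointUniq adjρ).hom.app _) _
    exact IsIso.of_isIso_comp_right _
      ((DRing.restrictD φ').map ((adjα.leftAdjointUniq adjα').hom.app K))
  · intro hh
    infer_instance

end Square

section Explicit

variable {R R' : Type u} [CommRing R] [CommRing R'] (ρ : R →+* R')

/-- the extension/restriction of scalars adjunction on modules -/
noncomputable abbrev adjE : ModuleCat.extendScalars.{u, u, u} ρ ⊣ ModuleCat.restrictScalars.{u} ρ :=
  ModuleCat.extendRestrictScalarsAdj.{u, u, u} ρ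

/-- chain-level adjoint of a map into a restricted complex -/
noncomputable def sharp {G : DRing.Cx R} {Y : DRing.Cx R'} (u : G ⟶ (rsCx ρ).obj Y) :
    (bcCx ρ).obj G ⟶ Y :=
  (bcCx ρ).map u ≫ counitC (adjE ρ) (ComplexShape.up ℤ) Y

lemma unitC_comp_rsCx_sharp {G : DRing.Cx R} {Y : DRing.Cx R'} (u : G ⟶ (rsCx ρ).obj Y) :
    unitC (adjE ρ) (ComplexShape.up ℤ) G ≫ (rsCx ρ).map (sharp ρ u) = u := by
  dsimp only [sharp]
  rw [Functor.map_comp, ← Category.assoc, ← unitC_naturality, Category.assoc, right_triangleC,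
    Category.comp_id]

/-- the adjoint, for the derived adjunction `myAdj`, of the image of a chain map -/
theorem myAdj_homEquiv_symm_Q {G : DRing.Cx R} {Y : DRing.Cx R'} (u : G ⟶ (rsCx ρ).obj Y) :
    ((myAdj ρ).homEquiv (Q.obj G) (Q.obj Y)).symm
        (Q.map u ≫ (ModuleCat.restrictScalars.{u} ρ).mapDerivedCategoryFactors.inv.app Y) =
      (lbcCmp ρ).app G ≫ Q.map (sharp ρ u) := by
  rw [Equiv.symm_apply_eq, Adjunction.homEquiv_unit, Functor.map_comp, ← Category.assoc]
  have h1 := derivedAdj_unit_cmp (ModuleCat.extendRestrictScalarsAdj.{u, u, u} ρ)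
    (hasKProjRes_moduleCat R) G
  have h2 := (ModuleCat.restrictScalars.{u} ρ).mapDerivedCategoryFactors.inv.naturality
    (sharp ρ u)
  dsimp at h2
  erw [h1]
  rw [Category.assoc]
  erw [← h2]
  rw [← Category.assoc, ← Functor.map_comp]
  erw [unitC_comp_rsCx_sharp ρ u]

end Explicit

section Square2

variable {R A R' A' : Type u} [CommRing R] [CommRing A] [CommRing R'] [CommRing A']
  {φ : R →+* A} {ρ : R →+* R'} {α : A →+* A'} {φ' : R' →+* A'} (h : α.comp φ = φ'.comp ρ)

/-- chain-level identification `(Z|_A)|_R ≅ (Z|_{R'})|_R` -/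
noncomputable def cxComm (Z : DRing.Cx A') :
    (rsCx φ).obj ((rsCx α).obj Z) ≅ (rsCx ρ).obj ((rsCx φ').obj Z) :=
  (Functor.mapHomologicalComplexCompIso (TrivBC.resCommMod h) (ComplexShape.up ℤ) ≪≫
    (Functor.mapHomologicalComplexCompIso
      (Iso.refl (ModuleCat.restrictScalars.{u} φ' ⋙ ModuleCat.restrictScalars.{u} ρ))
        (ComplexShape.up ℤ)).symm).app Z

/-- the canonical commutation isomorphism on the image of a complex -/
theorem resComm_hom_app_Q (Z : DRing.Cx A') :
    (TrivBC.resComm h).hom.app (Q.obj Z) =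
      (DRing.restrictD φ).map ((ModuleCat.restrictScalars.{u} α).mapDerivedCategoryFactors.hom.app Z) ≫
        (ModuleCat.restrictScalars.{u} φ).mapDerivedCategoryFactors.hom.app ((rsCx α).obj Z) ≫
          Q.map (cxComm h Z).hom ≫
            (ModuleCat.restrictScalars.{u} ρ).mapDerivedCategoryFactors.inv.app ((rsCx φ').obj Z) ≫
              (DRing.restrictD ρ).map
                ((ModuleCat.restrictScalars.{u} φ').mapDerivedCategoryFactors.inv.app Z) := by
  dsimp only [TrivBC.resComm, Localization.liftNatIso]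
  rw [Localization.liftNatTrans_app]
  dsimp [TrivBC.resCommCx, cxComm]
  have e1 : (Localization.Lifting.iso Q (HomologicalComplex.quasiIso (ModuleCat.{u} A') (ComplexShape.up ℤ))
      ((ModuleCat.restrictScalars.{u} α).mapHomologicalComplex (ComplexShape.up ℤ) ⋙
        (ModuleCat.restrictScalars.{u} φ).mapHomologicalComplex (ComplexShape.up ℤ) ⋙ Q)
      (DRing.restrictD α ⋙ DRing.restrictD φ) (self := TrivBC.liftingRes₂ α φ)).hom.app Z =
      (DRing.restrictD φ).map ((ModuleCat.restrictScalars.{u} α).mapDerivedCategoryFactors.hom.app Z) ≫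
        (ModuleCat.restrictScalars.{u} φ).mapDerivedCategoryFactors.hom.app ((rsCx α).obj Z) := by
    change ((Functor.associator _ _ _).symm ≪≫
      Functor.isoWhiskerRight (ModuleCat.restrictScalars.{u} α).mapDerivedCategoryFactors _ ≪≫
        Functor.associator _ _ _ ≪≫
          Functor.isoWhiskerLeft _ (ModuleCat.restrictScalars.{u} φ).mapDerivedCategoryFactors).hom.app Z = _
    dsimp
    simp only [Category.id_comp, Category.comp_id]
  have e2 : (Localization.Lifting.iso Q (HomologicalComplex.quasiIso (ModuleCat.{u} A') (ComplexShape.up ℤ))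
      ((ModuleCat.restrictScalars.{u} φ').mapHomologicalComplex (ComplexShape.up ℤ) ⋙
        (ModuleCat.restrictScalars.{u} ρ).mapHomologicalComplex (ComplexShape.up ℤ) ⋙ Q)
      (DRing.restrictD φ' ⋙ DRing.restrictD ρ) (self := TrivBC.liftingRes₂ φ' ρ)).inv.app Z =
      (ModuleCat.restrictScalars.{u} ρ).mapDerivedCategoryFactors.inv.app ((rsCx φ').obj Z) ≫
        (DRing.restrictD ρ).map
          ((ModuleCat.restrictScalars.{u} φ').mapDerivedCategoryFactors.inv.app Z) := by
    change ((Functor.associator _ _ _).symm ≪≫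
      Functor.isoWhiskerRight (ModuleCat.restrictScalars.{u} φ').mapDerivedCategoryFactors _ ≪≫
        Functor.associator _ _ _ ≪≫
          Functor.isoWhiskerLeft _ (ModuleCat.restrictScalars.{u} ρ).mapDerivedCategoryFactors).inv.app Z = _
    dsimp
    simp only [Category.id_comp, Category.comp_id]
  erw [e1, e2]
  simp only [Category.id_comp, Category.assoc]

/-- the chain-level map `P|_R ⟶ ((P ⊗_A A')|_{R'})|_R` -/
noncomputable def vP (P : DRing.Cx A) :
    (rsCx φ).obj P ⟶ (rsCx ρ).obj ((rsCx φ').obj ((bcCx α).obj P)) :=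
  (rsCx φ).map (unitC (adjE α) (ComplexShape.up ℤ) P) ≫ (cxComm h ((bcCx α).obj P)).hom

/-- the chain-level comparison map `G ⊗_R R' ⟶ (P ⊗_A A')|_{R'}` for `r : G ⟶ P|_R` -/
noncomputable def Θ (P : DRing.Cx A) {G : DRing.Cx R} (r : G ⟶ (rsCx φ).obj P) :
    (bcCx ρ).obj G ⟶ (rsCx φ').obj ((bcCx α).obj P) :=
  sharp ρ (r ≫ vP h P)

/-- **explicit description of `cmp`** for the derived adjunctions on the image of a complex -/
theorem cmp_Q_eq (P : DRing.Cx A) {G : DRing.Cx R} (r : G ⟶ (rsCx φ).obj P) :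
    (DRing.LBaseChange ρ).map
        (Q.map r ≫ (ModuleCat.restrictScalars.{u} φ).mapDerivedCategoryFactors.inv.app P) ≫
      TrivBC.cmp (myAdj ρ) (myAdj α) h (Q.obj P) ≫
        (DRing.restrictD φ').map ((lbcCmp α).app P) ≫
          (ModuleCat.restrictScalars.{u} φ').mapDerivedCategoryFactors.hom.app ((bcCx α).obj P) =
      (lbcCmp ρ).app G ≫ Q.map (Θ h P r) := by
  have hu := derivedAdj_unit_cmp (ModuleCat.extendRestrictScalarsAdj.{u, u, u} α)
    (hasKProjRes_moduleCat A) P
  have hrc := (TrivBC.resComm h).hom.naturality ((lbcCmp α).app P)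
  dsimp at hrc
  have hnat := (ModuleCat.restrictScalars.{u} φ).mapDerivedCategoryFactors.hom.naturality
    (unitC (adjE α) (ComplexShape.up ℤ) P)
  dsimp at hnat
  have s1 : ∀ (Z : DRing.Cx A'),
      (DRing.restrictD φ).map ((ModuleCat.restrictScalars.{u} α).mapDerivedCategoryFactors.inv.app Z) ≫
        (DRing.restrictD φ).map ((ModuleCat.restrictScalars.{u} α).mapDerivedCategoryFactors.hom.app Z) =
          𝟙 _ := by
    intro Z
    rw [← Functor.map_comp, Iso.inv_hom_id_app]
    exact CategoryTheory.Functor.map_id _ _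
  have s2 : ∀ (Z : DRing.Cx A'),
      (DRing.restrictD ρ).map ((ModuleCat.restrictScalars.{u} φ').mapDerivedCategoryFactors.inv.app Z) ≫
        (DRing.restrictD ρ).map ((ModuleCat.restrictScalars.{u} φ').mapDerivedCategoryFactors.hom.app Z) =
          𝟙 _ := by
    intro Z
    rw [← Functor.map_comp, Iso.inv_hom_id_app]
    exact CategoryTheory.Functor.map_id _ _
  have key : ((Q.map r ≫ (ModuleCat.restrictScalars.{u} φ).mapDerivedCategoryFactors.inv.app P) ≫
      ((DRing.restrictD φ).map ((myAdj α).unit.app (Q.obj P)) ≫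
        (TrivBC.resComm h).hom.app ((DRing.LBaseChange α).obj (Q.obj P)))) ≫
      (DRing.restrictD ρ).map ((DRing.restrictD φ').map ((lbcCmp α).app P) ≫
        (ModuleCat.restrictScalars.{u} φ').mapDerivedCategoryFactors.hom.app ((bcCx α).obj P)) =
      Q.map (r ≫ vP h P) ≫
        (ModuleCat.restrictScalars.{u} ρ).mapDerivedCategoryFactors.inv.app
          ((rsCx φ').obj ((bcCx α).obj P)) := by
    rw [Functor.map_comp]
    simp only [Category.assoc]
    rw [← Category.assoc ((TrivBC.resComm h).hom.app _), ← hrc, Category.assoc, ← Category.assoc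
      ((DRing.restrictD φ).map _), ← Functor.map_comp]
    erw [hu]
    rw [resComm_hom_app_Q, Functor.map_comp]
    simp only [Category.assoc]
    erw [reassoc_of% (s1 ((bcCx α).obj P)), s2 ((bcCx α).obj P), Category.comp_id,
      reassoc_of% hnat]
    rw [Iso.inv_hom_id_app_assoc, Functor.map_comp, vP, Functor.map_comp]
    simp only [Category.assoc]
  dsimp only [TrivBC.cmp]
  rw [← Category.assoc]
  erw [← (myAdj ρ).homEquiv_naturality_left_symm, ← (myAdj ρ).homEquiv_naturality_right_symm]
  erw [key]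
  exact myAdj_homEquiv_symm_Q ρ (r ≫ vP h P)

/-- criterion: `cmp` at a K-projective complex is an isomorphism iff the chain-level map is a
quasi-isomorphism -/
theorem isIso_cmp_Q_of_quasiIso (P : DRing.Cx A) [P.IsKProjective] {G : DRing.Cx R}
    [G.IsKProjective] (r : G ⟶ (rsCx φ).obj P) (hr : QuasiIso r) (hΘ : QuasiIso (Θ h P r)) :
    IsIso (TrivBC.cmp (myAdj ρ) (myAdj α) h (Q.obj P)) := by
  have e := cmp_Q_eq h P r
  haveI : IsIso (Q.map r) := by
    rw [DerivedCategory.isIso_Q_map_iff_quasiIso]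
    exact hr
  haveI : IsIso (Q.map (Θ h P r)) := by
    rw [DerivedCategory.isIso_Q_map_iff_quasiIso]
    exact hΘ
  haveI : IsIso ((DRing.LBaseChange ρ).map
      (Q.map r ≫ (ModuleCat.restrictScalars.{u} φ).mapDerivedCategoryFactors.inv.app P)) :=
    inferInstance
  haveI : IsIso ((DRing.LBaseChange ρ).map
        (Q.map r ≫ (ModuleCat.restrictScalars.{u} φ).mapDerivedCategoryFactors.inv.app P) ≫
      TrivBC.cmp (myAdj ρ) (myAdj α) h (Q.obj P) ≫
        (DRing.restrictD φ').map ((lbcCmp α).app P) ≫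
          (ModuleCat.restrictScalars.{u} φ').mapDerivedCategoryFactors.hom.app ((bcCx α).obj P)) := by
    rw [e]
    infer_instance
  haveI : IsIso (TrivBC.cmp (myAdj ρ) (myAdj α) h (Q.obj P) ≫
        (DRing.restrictD φ').map ((lbcCmp α).app P) ≫
          (ModuleCat.restrictScalars.{u} φ').mapDerivedCategoryFactors.hom.app ((bcCx α).obj P)) :=
    IsIso.of_isIso_comp_left ((DRing.LBaseChange ρ).map
      (Q.map r ≫ (ModuleCat.restrictScalars.{u} φ).mapDerivedCategoryFactors.inv.app P)) _
  exact IsIso.of_isIso_comp_right _ ((DRing.restrictD φ').map ((lbcCmp α).app P) ≫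
          (ModuleCat.restrictScalars.{u} φ').mapDerivedCategoryFactors.hom.app ((bcCx α).obj P))

/-- the module-level base change comparison `R' ⊗_R X ⟶ (A' ⊗_A X)|_{R'}` -/
noncomputable def κmod (X : ModuleCat.{u} A) :
    (ModuleCat.extendScalars.{u, u, u} ρ).obj ((ModuleCat.restrictScalars.{u} φ).obj X) ⟶
      (ModuleCat.restrictScalars.{u} φ').obj ((ModuleCat.extendScalars.{u, u, u} α).obj X) :=
  (ModuleCat.extendScalars.{u, u, u} ρ).map
      ((ModuleCat.restrictScalars.{u} φ).map ((adjE α).unit.app X) ≫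
        (TrivBC.resCommMod h).hom.app ((ModuleCat.extendScalars.{u, u, u} α).obj X)) ≫
    (adjE ρ).counit.app _

/-- the complex-level base change comparison `R' ⊗_R P|_R ⟶ (A' ⊗_A P)|_{R'}` -/
noncomputable def κcx (P : DRing.Cx A) :
    (bcCx ρ).obj ((rsCx φ).obj P) ⟶ (rsCx φ').obj ((bcCx α).obj P) :=
  sharp ρ (vP h P)

lemma cxComm_hom_f (Z : DRing.Cx A') (i : ℤ) :
    (cxComm h Z).hom.f i = (TrivBC.resCommMod h).hom.app (Z.X i) := by
  dsimp [cxComm]
  erw [Category.comp_id]
  rfl

lemma κcx_f (P : DRing.Cx A) (i : ℤ) : (κcx h P).f i = κmod h (P.X i) := by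
  dsimp only [κcx, sharp, vP, κmod]
  rw [HomologicalComplex.comp_f, Functor.mapHomologicalComplex_map_f, HomologicalComplex.comp_f,
    Functor.mapHomologicalComplex_map_f, cxComm_hom_f]
  rfl

lemma Θ_eq (P : DRing.Cx A) {G : DRing.Cx R} (r : G ⟶ (rsCx φ).obj P) :
    Θ h P r = (bcCx ρ).map r ≫ κcx h P := by
  dsimp only [Θ, κcx, sharp]
  rw [Functor.map_comp, Category.assoc]

/-- the square is cocartesian in the sense that `R' ⊗_R X ≅ A' ⊗_A X` for all `A`-modules `X` -/
def IsCocart : Prop := ∀ X : ModuleCat.{u} A, IsIso (κmod h X)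

lemma isIso_κcx (hc : IsCocart h) (P : DRing.Cx A) : IsIso (κcx h P) := by
  haveI : ∀ i, IsIso ((κcx h P).f i) := fun i => by
    rw [κcx_f]
    exact hc _
  exact HomologicalComplex.Hom.isIso_of_components _

end Square2

theorem coyExact_leftAdjoint_comp {C D E : Type*} [Category C] [Category D] [Category E]
    [Preadditive C] [Preadditive D] [Preadditive E] [HasZeroObject C] [HasZeroObject D]
    [HasZeroObject E] [HasShift C ℤ] [HasShift D ℤ] [HasShift E ℤ]
    [∀ n : ℤ, (shiftFunctor C n).Additive] [∀ n : ℤ, (shiftFunctor D n).Additive]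
    [∀ n : ℤ, (shiftFunctor E n).Additive]
    [Pretriangulated C] [Pretriangulated D] [Pretriangulated E] {F : C ⥤ D} {G : D ⥤ C}
    (adj : F ⊣ G) [G.CommShift ℤ] [G.IsTriangulated] (H : D ⥤ E) [H.CommShift ℤ]
    [H.IsTriangulated] : CoyExact (F ⋙ H) := by
  letI : F.CommShift ℤ := adj.leftAdjointCommShift ℤ
  haveI : adj.CommShift ℤ := adj.commShift_of_rightAdjoint ℤ
  haveI : F.IsTriangulated := adj.isTriangulated_leftAdjoint
  exact coyExact_of_isTriangulated (F ⋙ H)

section Main

variable {R A R' A' : Type u} [CommRing R] [CommRing A] [CommRing R'] [CommRing A']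
  {φ : R →+* A} {ρ : R →+* R'} {α : A →+* A'} {φ' : R' →+* A'} (h : α.comp φ = φ'.comp ρ)

variable (φ ρ) in
/-- tor independence: `A`, as an `R`-module, is Tor-acyclic against `R'` -/
def TorIndep : Prop :=
  TA (SR ρ) ((ModuleCat.restrictScalars.{u} φ).obj (ModuleCat.of A A))

theorem isIso_cmp_unit_shift (hc : IsCocart h) (hta : TorIndep φ ρ) (n : ℤ) :
    IsIso (TrivBC.cmp (myAdj ρ) (myAdj α) h (Q.obj (Un (R := A) n))) := by
  have hU : (Un (R := A) n).IsKProjective := inferInstance
  have hb : DRing.VanishesAbove ((rsCx φ).obj (Un (R := A) n)) (-n) := by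
    intro i hi
    exact Functor.map_isZero (ModuleCat.restrictScalars.{u} φ)
      (HomologicalComplex.isZero_single_obj_X (ComplexShape.up ℤ) 0 (ModuleCat.of A A) (i + n)
        (by omega))
  obtain ⟨G, r, hr, hproj, hGb, hG⟩ := Groth.Agent.Helper5.TorAmp.exists_resolution _ (-n) hb
  have hGta : ∀ i, TA (SR ρ) (G.X i) := fun i => by
    haveI := hproj i
    haveI : Module.Flat R (G.X i) := Groth.Agent.Helper1.TorL.flat_of_projective (G.X i)
    exact TA.of_flat _ _
  have hPta : ∀ i, TA (SR ρ) (((rsCx φ).obj (Un (R := A) n)).X i) := fun i => by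
    by_cases hi : i + n = 0
    · refine TA.of_iso _ ?_ hta
      exact (ModuleCat.restrictScalars.{u} φ).mapIso
        (HomologicalComplex.singleObjXIsoOfEq (ComplexShape.up ℤ) 0 (ModuleCat.of A A) (i + n) hi).symm
    · apply TA.of_isZero
      exact Functor.map_isZero (ModuleCat.restrictScalars.{u} φ)
        (HomologicalComplex.isZero_single_obj_X (ComplexShape.up ℤ) 0 (ModuleCat.of A A) (i + n) hi)
  haveI := quasiIso_bcCx_of_ta ρ r hr hGta hPta (-n) hGb hb
  haveI := isIso_κcx h hc (Un (R := A) n)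
  have hΘ : QuasiIso (Θ h (Un (R := A) n) r) := by
    rw [Θ_eq]
    infer_instance
  exact isIso_cmp_Q_of_quasiIso h (Un (R := A) n) r hr hΘ

/-- **tor independent base change** for the derived adjunctions -/
theorem isIso_cmp_myAdj (hc : IsCocart h) (hta : TorIndep φ ρ) (K : Dual.D A) :
    IsIso (TrivBC.cmp (myAdj ρ) (myAdj α) h K) := by
  have h₁ : CoyExact (DRing.restrictD φ ⋙ DRing.LBaseChange ρ) :=
    CoyExact.comp_triangulated (DRing.restrictD φ) (coyExact_of_leftAdjoint (myAdj ρ))
  have h₂ : CoyExact (DRing.LBaseChange α ⋙ DRing.restrictD φ') :=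
    coyExact_leftAdjoint_comp (myAdj α) (DRing.restrictD φ')
  have c₁ : PresCoprod.{u} (DRing.restrictD φ ⋙ DRing.LBaseChange ρ) :=
    (presCoprod_of_adjunction (Helper5.Shriek.rAdj φ)).comp (presCoprod_of_adjunction (myAdj ρ))
  have c₂ : PresCoprod.{u} (DRing.LBaseChange α ⋙ DRing.restrictD φ') :=
    (presCoprod_of_adjunction (myAdj α)).comp (presCoprod_of_adjunction (Helper5.Shriek.rAdj φ'))
  have c₁' : PresCoprod.{0} (DRing.restrictD φ ⋙ DRing.LBaseChange ρ) :=
    (presCoprod_of_adjunction (Helper5.Shriek.rAdj φ)).comp (presCoprod_of_adjunction (myAdj ρ))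
  have c₂' : PresCoprod.{0} (DRing.LBaseChange α ⋙ DRing.restrictD φ') :=
    (presCoprod_of_adjunction (myAdj α)).comp (presCoprod_of_adjunction (Helper5.Shriek.rAdj φ'))
  have h0 : isoLocus (cmpNat (myAdj ρ) (myAdj α) h) (Dual.inD A A) := fun n => by
    have e : Q.obj (Un (R := A) n) ≅ (Dual.inD A A)⟦n⟧ :=
      (Q.commShiftIso n).app (𝟙_ (DRing.Cx A))
    exact isIso_app_of_iso (cmpNat (myAdj ρ) (myAdj α) h) e (isIso_cmp_unit_shift h hc hta n)
  exact isIso_app_of_unit (cmpNat (myAdj ρ) (myAdj α) h) h₁ h₂ c₁ c₂ c₁' c₂' h0 K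

/-- **tor independent base change**: the comparison map is an isomorphism for any adjunction
data -/
theorem isIso_cmp (hc : IsCocart h) (hta : TorIndep φ ρ)
    (adjρ : DRing.LBaseChange ρ ⊣ DRing.restrictD ρ)
    (adjα : DRing.LBaseChange α ⊣ DRing.restrictD α) (K : Dual.D A) :
    IsIso (TrivBC.cmp adjρ adjα h K) :=
  (isIso_cmp_iff (myAdj ρ) adjρ (myAdj α) adjα h K).2 (isIso_cmp_myAdj h hc hta K)

end Main

end Groth.Agent.Lib.Helper5.TBC
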