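import Mathlib
import Groth.Prelude.Def_TrivBC
import Groth.Agent.Lib.Helper5.TBC.Cmp
import Groth.Agent.Lib.Helper5.Shriek.BCGen
import Groth.Agent.Lib.Helper5.Gen.ProjShift

/-!
# Formal reduction for the base change map of trivial duality (helper5)

`bcMap` at `K` is an isomorphism as soon as the map
`fK : (Rφ K ⊗^L_A A')|_A ⟶ Rφ((K ⊗^L_R R')|_R)` is one.
-/

set_option autoImplicit false
universe u
open CategoryTheory CategoryTheory.Limits DerivedCategory
attribute [local instance] HasDerivedCategory.standard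

namespace Groth.Agent.Lib.Helper5.TBC
open Groth.Agent.Lib.Helper5.DTenLib

section Formal

variable {R A R' A' : Type u} [CommRing R] [CommRing A] [CommRing R'] [CommRing A']
  {φ : R →+* A} {ρ : R →+* R'} {α : A →+* A'} {φ' : R' →+* A'}
  (adjρ : DRing.LBaseChange ρ ⊣ DRing.restrictD ρ)
  (adjα : DRing.LBaseChange α ⊣ DRing.restrictD α)
  (h : α.comp φ = φ'.comp ρ) {Rφ : Dual.D R ⥤ Dual.D A} (adj : DRing.restrictD φ ⊣ Rφ)
  {Rφ' : Dual.D R' ⥤ Dual.D A'} (adj' : DRing.restrictD φ' ⊣ Rφ')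

/-- the map `(Rφ K ⊗^L_A A')|_{R'} ⟶ K ⊗^L_R R'` whose transpose is `bcMap` -/
noncomputable def epsK (K : Dual.D R) (hc : IsIso (TrivBC.cmp adjρ adjα h (Rφ.obj K))) :
    (DRing.restrictD φ').obj ((DRing.LBaseChange α).obj (Rφ.obj K)) ⟶
      (DRing.LBaseChange ρ).obj K :=
  haveI := hc
  inv (TrivBC.cmp adjρ adjα h (Rφ.obj K)) ≫ (DRing.LBaseChange ρ).map (adj.counit.app K)

lemma bcMap_eq (K : Dual.D R) (hc : IsIso (TrivBC.cmp adjρ adjα h (Rφ.obj K))) :
    TrivBC.bcMap adjρ adjα h adj adj' K hc = adj'.homEquiv _ _ (epsK adjρ adjα h adj K hc) :=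
  rfl

/-- the map `((Rφ K ⊗^L_A A')|_A)|_R ⟶ (K ⊗^L_R R')|_R` -/
noncomputable def mK (K : Dual.D R) (hc : IsIso (TrivBC.cmp adjρ adjα h (Rφ.obj K))) :
    (DRing.restrictD φ).obj ((DRing.restrictD α).obj ((DRing.LBaseChange α).obj (Rφ.obj K))) ⟶
      (DRing.restrictD ρ).obj ((DRing.LBaseChange ρ).obj K) :=
  (TrivBC.resComm h).hom.app _ ≫ (DRing.restrictD ρ).map (epsK adjρ adjα h adj K hc)

/-- the transpose `(Rφ K ⊗^L_A A')|_A ⟶ Rφ((K ⊗^L_R R')|_R)` -/
noncomputable def fK (K : Dual.D R) (hc : IsIso (TrivBC.cmp adjρ adjα h (Rφ.obj K))) :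
    (DRing.restrictD α).obj ((DRing.LBaseChange α).obj (Rφ.obj K)) ⟶
      Rφ.obj ((DRing.restrictD ρ).obj ((DRing.LBaseChange ρ).obj K)) :=
  adj.homEquiv _ _ (mK adjρ adjα h adj K hc)

lemma homEquiv_cmp_comp (K : Dual.D R) (hc : IsIso (TrivBC.cmp adjρ adjα h (Rφ.obj K)))
    (C : Dual.D A)
    (g : (DRing.LBaseChange α).obj C ⟶ (DRing.LBaseChange α).obj (Rφ.obj K)) :
    adjρ.homEquiv _ _ (TrivBC.cmp adjρ adjα h C ≫ (DRing.restrictD φ').map g ≫
        epsK adjρ adjα h adj K hc) =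
      (DRing.restrictD φ).map (adjα.homEquiv _ _ g) ≫ mK adjρ adjα h adj K hc := by
  have e1 : adjρ.homEquiv _ _ (TrivBC.cmp adjρ adjα h C) =
      (DRing.restrictD φ).map (adjα.unit.app C) ≫
        (TrivBC.resComm h).hom.app ((DRing.LBaseChange α).obj C) := by
    dsimp only [TrivBC.cmp]
    rw [Equiv.apply_symm_apply]
  have e2 := (TrivBC.resComm h).hom.naturality g
  dsimp at e2
  rw [adjρ.homEquiv_naturality_right, e1, Adjunction.homEquiv_unit, Functor.map_comp,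
    Functor.map_comp]
  dsimp only [mK]
  simp only [Category.assoc]
  rw [reassoc_of% e2]

lemma comp_fK (K : Dual.D R) (hc : IsIso (TrivBC.cmp adjρ adjα h (Rφ.obj K)))
    (C : Dual.D A)
    (g : (DRing.LBaseChange α).obj C ⟶ (DRing.LBaseChange α).obj (Rφ.obj K)) :
    adjα.homEquiv _ _ g ≫ fK adjρ adjα h adj K hc =
      adj.homEquiv _ _ (adjρ.homEquiv _ _ (TrivBC.cmp adjρ adjα h C ≫
        (DRing.restrictD φ').map g ≫ epsK adjρ adjα h adj K hc)) := by
  rw [homEquiv_cmp_comp, adj.homEquiv_naturality_left]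
  rfl

/-- **formal reduction**: `bcMap` is an isomorphism as soon as `fK` is one -/
theorem isIso_bcMap_of_isIso_fK (K : Dual.D R)
    (hc : IsIso (TrivBC.cmp adjρ adjα h (Rφ.obj K)))
    (hf : IsIso (fK adjρ adjα h adj K hc))
    (hgen : ∀ j : ℤ, ∃ (C : Dual.D A)
      (_ : (DRing.LBaseChange α).obj C ≅ (Dual.inD A' A')⟦j⟧),
      IsIso (TrivBC.cmp adjρ adjα h C)) :
    IsIso (TrivBC.bcMap adjρ adjα h adj adj' K hc) := by
  apply Helper5.Shriek.isIso_of_unit_shift_bijective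
  intro j
  obtain ⟨C, E, hC⟩ := hgen j
  have key : ∀ k : (Dual.inD A' A')⟦j⟧ ⟶ (DRing.LBaseChange α).obj (Rφ.obj K),
      k ≫ TrivBC.bcMap adjρ adjα h adj adj' K hc =
        adj'.homEquiv _ _ ((DRing.restrictD φ').map k ≫ epsK adjρ adjα h adj K hc) := by
    intro k
    rw [bcMap_eq, adj'.homEquiv_naturality_left]
  have key2 : ∀ g : (DRing.LBaseChange α).obj C ⟶ (DRing.LBaseChange α).obj (Rφ.obj K),
      g ≫ TrivBC.bcMap adjρ adjα h adj adj' K hc =
        adj'.homEquiv _ _ ((DRing.restrictD φ').map g ≫ epsK adjρ adjα h adj K hc) := by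
    intro g
    rw [bcMap_eq, adj'.homEquiv_naturality_left]
  constructor
  · intro k₁ k₂ hk
    dsimp only at hk
    have h1 : (E.hom ≫ k₁) ≫ TrivBC.bcMap adjρ adjα h adj adj' K hc =
        (E.hom ≫ k₂) ≫ TrivBC.bcMap adjρ adjα h adj adj' K hc := by
      rw [Category.assoc, Category.assoc, hk]
    rw [key2, key2] at h1
    have h2 := (adj'.homEquiv _ _).injective h1
    have h3 : adjα.homEquiv _ _ (E.hom ≫ k₁) ≫ fK adjρ adjα h adj K hc =
        adjα.homEquiv _ _ (E.hom ≫ k₂) ≫ fK adjρ adjα h adj K hc := by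
      rw [comp_fK, comp_fK, h2]
    have h4 := (cancel_mono (fK adjρ adjα h adj K hc)).1 h3
    have h5 := (adjα.homEquiv _ _).injective h4
    exact (cancel_epi E.hom).1 h5
  · intro y
    let t : (DRing.restrictD φ').obj ((DRing.LBaseChange α).obj C) ⟶
        (DRing.LBaseChange ρ).obj K := (adj'.homEquiv _ _).symm (E.hom ≫ y)
    let g' : C ⟶ (DRing.restrictD α).obj ((DRing.LBaseChange α).obj (Rφ.obj K)) :=
      adj.homEquiv _ _ (adjρ.homEquiv _ _ (TrivBC.cmp adjρ adjα h C ≫ t)) ≫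
        inv (fK adjρ adjα h adj K hc)
    let g : (DRing.LBaseChange α).obj C ⟶ (DRing.LBaseChange α).obj (Rφ.obj K) :=
      (adjα.homEquiv _ _).symm g'
    have h1 : adjα.homEquiv _ _ g ≫ fK adjρ adjα h adj K hc =
        adj.homEquiv _ _ (adjρ.homEquiv _ _ (TrivBC.cmp adjρ adjα h C ≫ t)) := by
      dsimp only [g, g']
      rw [Equiv.apply_symm_apply, Category.assoc, IsIso.inv_hom_id, Category.comp_id]
    rw [comp_fK] at h1
    have h2 := (adjρ.homEquiv _ _).injective ((adj.homEquiv _ _).injective h1)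
    have h3 : (DRing.restrictD φ').map g ≫ epsK adjρ adjα h adj K hc = t :=
      (cancel_epi (TrivBC.cmp adjρ adjα h C)).1 h2
    refine ⟨E.inv ≫ g, ?_⟩
    dsimp only
    rw [Category.assoc, key2, h3]
    dsimp only [t]
    rw [Equiv.apply_symm_apply, Iso.inv_hom_id_assoc]

/-- dependence of `bcMap` on the base change adjunctions -/
theorem bcMap_eq_of_adj (adjρ' : DRing.LBaseChange ρ ⊣ DRing.restrictD ρ)
    (adjα' : DRing.LBaseChange α ⊣ DRing.restrictD α) (K : Dual.D R)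
    (hc : IsIso (TrivBC.cmp adjρ adjα h (Rφ.obj K)))
    (hc' : IsIso (TrivBC.cmp adjρ' adjα' h (Rφ.obj K))) :
    TrivBC.bcMap adjρ' adjα' h adj adj' K hc' =
      (adjα.leftAdjointUniq adjα').inv.app (Rφ.obj K) ≫
        TrivBC.bcMap adjρ adjα h adj adj' K hc ≫
          Rφ'.map ((adjρ'.leftAdjointUniq adjρ).inv.app K) := by
  rw [bcMap_eq, bcMap_eq, ← adj'.homEquiv_naturality_right, ← adj'.homEquiv_naturality_left]
  congr 1
  haveI := hc
  haveI := hc'
  dsimp only [epsK]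
  rw [IsIso.inv_comp_eq, cmp_eq_of_adj adjρ adjρ' adjα adjα' h (Rφ.obj K)]
  have e1 := (adjρ'.leftAdjointUniq adjρ).hom.naturality (adj.counit.app K)
  dsimp at e1
  simp only [Category.assoc]
  rw [← Functor.map_comp_assoc, Iso.hom_inv_id_app, CategoryTheory.Functor.map_id,
    Category.id_comp, IsIso.hom_inv_id_assoc, ← reassoc_of% e1, Iso.hom_inv_id_app,
    Category.comp_id]

theorem isIso_bcMap_of_adj (adjρ' : DRing.LBaseChange ρ ⊣ DRing.restrictD ρ)
    (adjα' : DRing.LBaseChange α ⊣ DRing.restrictD α) (K : Dual.D R)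
    (hc : IsIso (TrivBC.cmp adjρ adjα h (Rφ.obj K)))
    (hc' : IsIso (TrivBC.cmp adjρ' adjα' h (Rφ.obj K)))
    (hb : IsIso (TrivBC.bcMap adjρ adjα h adj adj' K hc)) :
    IsIso (TrivBC.bcMap adjρ' adjα' h adj adj' K hc') := by
  rw [bcMap_eq_of_adj adjρ adjα h adj adj' adjρ' adjα' K hc hc']
  infer_instance

/-- `bcMap` is compatible with isomorphisms of the object -/
theorem bcMap_naturality_iso {K K' : Dual.D R} (e : K ≅ K')
    (hc : IsIso (TrivBC.cmp adjρ adjα h (Rφ.obj K)))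
    (hc' : IsIso (TrivBC.cmp adjρ adjα h (Rφ.obj K'))) :
    TrivBC.bcMap adjρ adjα h adj adj' K hc ≫ Rφ'.map ((DRing.LBaseChange ρ).map e.hom) =
      (DRing.LBaseChange α).map (Rφ.map e.hom) ≫ TrivBC.bcMap adjρ adjα h adj adj' K' hc' := by
  rw [bcMap_eq, bcMap_eq, ← adj'.homEquiv_naturality_right, ← adj'.homEquiv_naturality_left]
  congr 1
  haveI := hc
  haveI := hc'
  dsimp only [epsK]
  have e1 := (cmpNat adjρ adjα h).naturality (Rφ.map e.hom)
  simp only [cmpNat_app, Functor.comp_map] at e1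
  have e2 := adj.counit.naturality e.hom
  simp only [Functor.comp_map, Functor.id_map] at e2
  rw [Category.assoc, IsIso.inv_comp_eq, ← Functor.map_comp, ← e2, Functor.map_comp,
    ← Category.assoc, ← Category.assoc, ← e1]
  simp only [Category.assoc, IsIso.hom_inv_id_assoc]

theorem isIso_bcMap_of_iso {K K' : Dual.D R} (e : K ≅ K')
    (hc : IsIso (TrivBC.cmp adjρ adjα h (Rφ.obj K)))
    (hc' : IsIso (TrivBC.cmp adjρ adjα h (Rφ.obj K')))
    (hb : IsIso (TrivBC.bcMap adjρ adjα h adj adj' K' hc')) :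
    IsIso (TrivBC.bcMap adjρ adjα h adj adj' K hc) := by
  have e1 := bcMap_naturality_iso adjρ adjα h adj adj' e hc hc'
  have e2 : TrivBC.bcMap adjρ adjα h adj adj' K hc =
      ((DRing.LBaseChange α).map (Rφ.map e.hom) ≫ TrivBC.bcMap adjρ adjα h adj adj' K' hc') ≫
        Rφ'.map ((DRing.LBaseChange ρ).map e.inv) := by
    rw [← e1, Category.assoc, ← Functor.map_comp, ← Functor.map_comp, Iso.hom_inv_id,
      CategoryTheory.Functor.map_id, CategoryTheory.Functor.map_id, Category.comp_id]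
  rw [e2]
  infer_instance

end Formal

section Gens

open Helper5.Gen Groth.Agent.Lib.Helper5.KProj MonoidalCategory

variable {A A' : Type u} [CommRing A] [CommRing A'] (α : A →+* A')

/-- the derived base change of a shift of the ring is the shift of the ring -/
noncomputable def lbcUnIso (j : ℤ) :
    (DRing.LBaseChange α).obj (Q.obj (Un (R := A) j)) ≅ (Dual.inD A' A')⟦j⟧ :=
  lbcIso α (Un (R := A) j) ≪≫
    Q.mapIso (ecs α (𝟙_ (DRing.Cx A)) j ≪≫ (shiftFunctor (DRing.Cx A') j).mapIso (ε₀ α)) ≪≫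
    (Q.commShiftIso j).app (𝟙_ (DRing.Cx A'))

end Gens

end Groth.Agent.Lib.Helper5.TBC
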