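import Mathlib
import Groth.Agent.Lib.Helper5.TBC.Cmp
import Groth.Agent.Lib.Helper5.Shriek.BCCmp

/-!
# Cocartesian squares of rings and the hypotheses of tor independent base change (helper5)
-/

set_option autoImplicit false
universe u
open CategoryTheory CategoryTheory.Limits DerivedCategory MonoidalCategory TensorProduct
attribute [local instance] HasDerivedCategory.standard

namespace Groth.Agent.Lib.Helper5.TBC
open Groth.Agent.Lib.Helper5.DTenLib Helper5.Gen Groth.Agent.Lib.Helper5.KProj
  Groth.Agent.Helper1.TorL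

section

variable {R A R' A' : Type u} [CommRing R] [CommRing A] [CommRing R'] [CommRing A']
  {φ : R →+* A} {ρ : R →+* R'} {α : A →+* A'} {φ' : R' →+* A'} (h : α.comp φ = φ'.comp ρ)

open ChangeOfRings in
lemma κmod_tmul (X : ModuleCat.{u} A) (s : R') (x : X) :
    (κmod h X).hom (s ⊗ₜ[R,ρ] (x : (ModuleCat.restrictScalars.{u} φ).obj X)) =
      (φ' s * 1) ⊗ₜ[A,α] x := by
  rfl

end

section Alg

variable (R A R' A' : Type u) [CommRing R] [CommRing A] [CommRing R'] [CommRing A']
  [Algebra R A] [Algebra R R'] [Algebra A A'] [Algebra R' A'] [Algebra R A']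
  [IsScalarTower R A A'] [IsScalarTower R R' A'] [Algebra.IsPushout R A R' A']

open Helper5.Shriek in
open ChangeOfRings in
/-- a pushout square of algebras is cocartesian in the sense of `IsCocart` -/
theorem isCocart_of_isPushout
    (h : (algebraMap A A').comp (algebraMap R A) = (algebraMap R' A').comp (algebraMap R R')) :
    IsCocart h := by
  intro X
  letI : Module R X := Module.compHom X (algebraMap R A)
  haveI : IsScalarTower R A X := IsScalarTower.of_algebraMap_smul (fun _ _ => rfl)
  haveI : Algebra.IsPushout R R' A A' := Algebra.IsPushout.symm inferInstance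
  let E := Algebra.IsPushout.cancelBaseChange R R' A A' X
  let e₁ : (↑(SR (algebraMap R R')) ⊗[R]
      ↑((ModuleCat.restrictScalars.{u} (algebraMap R A)).obj X)) ≃ₗ[R] (R' ⊗[R] X) :=
    TensorProduct.congr (resUnitLin R R')
      (LinearEquiv.refl R X :
        ↑((ModuleCat.restrictScalars.{u} (algebraMap R A)).obj X) ≃ₗ[R] X)
  let e₂ : (A' ⊗[A] X) ≃ₗ[A] (↑(SR (algebraMap A A')) ⊗[A] ↑X) :=
    TensorProduct.congr (resUnitLin A A').symm (LinearEquiv.refl A X)
  have key : ∀ t, (κmod h X).hom t = e₂ (E.symm (e₁ t)) := by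
    intro t
    induction t using TensorProduct.induction_on with
    | zero =>
      have h0 : e₂ (E.symm (e₁ 0)) = 0 := by rw [map_zero, map_zero, map_zero]
      exact (map_zero (κmod h X).hom).trans h0.symm
    | tmul s x =>
      refine (κmod_tmul h X s x).trans ?_
      have h1 : e₁ (s ⊗ₜ[R] x) = (show R' from s) ⊗ₜ[R] (show X from x) := rfl
      have h2 : E.symm ((show R' from s) ⊗ₜ[R] (show X from x)) =
          algebraMap R' A' (show R' from s) ⊗ₜ[A] (show X from x) :=
        Algebra.IsPushout.cancelBaseChange_symm_tmul R R' A A' X _ _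
      rw [h1, h2, mul_one]
      rfl
    | add a b ha hb =>
      have h1 : e₂ (E.symm (e₁ (a + b))) = e₂ (E.symm (e₁ a)) + e₂ (E.symm (e₁ b)) := by
        rw [map_add, map_add, map_add]
      exact (map_add (κmod h X).hom a b).trans ((congrArg₂ (· + ·) ha hb).trans h1.symm)
  have hbij : Function.Bijective (κmod h X).hom := by
    have : ((κmod h X).hom : _ → _) = fun t => e₂ (E.symm (e₁ t)) := funext key
    rw [this]
    exact e₂.bijective.comp (E.symm.bijective.comp e₁.bijective)
  exact (ConcreteCategory.isIso_iff_bijective _).2 hbij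

omit [Algebra A A'] [Algebra R' A'] [Algebra R A'] [IsScalarTower R A A'] [IsScalarTower R R' A']
  [Algebra.IsPushout R A R' A'] in
open Helper5.Shriek in
/-- tor independence in the sense of Mathlib's `Tor` gives `TorIndep` -/
theorem torIndep_of_tor (htor : ∀ p : ℕ, 1 ≤ p → Subsingleton (DRing.Tor R p A R')) :
    TorIndep (algebraMap R A) (algebraMap R R') := by
  intro n
  haveI := htor (n + 1) (by omega)
  have hz : IsZero (T (n + 1) (ModuleCat.of R A) (ModuleCat.of R R')) :=
    ModuleCat.isZero_of_subsingleton _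
  let eA : (ModuleCat.restrictScalars.{u} (algebraMap R A)).obj (ModuleCat.of A A) ≅
      ModuleCat.of R A := (resUnitLin R A).toModuleIso
  let eR' : SR (algebraMap R R') ≅ ModuleCat.of R R' := (resUnitLin R R').toModuleIso
  exact hz.of_iso (torCongrLeft eA _ (n + 1) ≪≫ torCongrRight _ eR' (n + 1))

end Alg

end Groth.Agent.Lib.Helper5.TBC
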