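import Mathlib
import Groth.Prelude.Def_DTen5
import Groth.Agent.Lib.Helper5.TBC.Pushout
import Groth.Agent.Lib.Helper5.Gen.ProjCx

/-!
# Module level maps for the base change of the mixed tensor product (helper5)
-/

set_option autoImplicit false
universe u
open CategoryTheory CategoryTheory.Limits MonoidalCategory TensorProduct

namespace Groth.Agent.Lib.Helper5.TBC
open DTen Helper5.Gen

section ModLevel

variable {R R' : Type u} [CommRing R] [CommRing R'] (ρ : R →+* R')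

/-- extension followed by restriction of scalars, on modules -/
noncomputable abbrev EF : ModuleCat.{u} R ⥤ ModuleCat.{u} R :=
  ModuleCat.extendScalars.{u, u, u} ρ ⋙ ModuleCat.restrictScalars.{u} ρ

/-- `(R' ⊗ M) ⊗ N ≅ R' ⊗ (M ⊗ N)` -/
noncomputable def γmodApp (M N : ModuleCat.{u} R) : (EF ρ).obj M ⊗ N ≅ (EF ρ).obj (M ⊗ N) :=
  whiskerRightIso ((extResIso ρ).app M) N ≪≫ α_ (SR ρ) M N ≪≫ ((extResIso ρ).app (M ⊗ N)).symm

open ChangeOfRings in
lemma γmodApp_hom_tmul (M N : ModuleCat.{u} R) (s : R') (m : M) (n : N) :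
    (γmodApp ρ M N).hom.hom ((s ⊗ₜ[R,ρ] m : (EF ρ).obj M) ⊗ₜ[R] n) =
      (s ⊗ₜ[R,ρ] (m ⊗ₜ[R] n : (M ⊗ N : ModuleCat.{u} R)) : (EF ρ).obj (M ⊗ N)) := by
  rfl

/-- an element of `(R' ⊗ M) ⊗ N`-type induction principle: maps out of `(EF M) ⊗ N` agree if they
agree on pure tensors -/
lemma hom_ext_EF_tensor {M N : ModuleCat.{u} R} {Z : ModuleCat.{u} R}
    (f g : ((EF ρ).obj M ⊗ N : ModuleCat.{u} R) ⟶ Z)
    (h : ∀ (s : R') (m : M) (n : N),
      f.hom ((s ⊗ₜ[R] m : (EF ρ).obj M) ⊗ₜ[R] n) = g.hom ((s ⊗ₜ[R] m : (EF ρ).obj M) ⊗ₜ[R] n)) :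
    f = g := by
  refine ModuleCat.hom_ext (TensorProduct.ext' (fun x n => ?_))
  induction x using TensorProduct.induction_on with
  | zero =>
    have : ((0 : (EF ρ).obj M) ⊗ₜ[R] n : ((EF ρ).obj M ⊗ N : ModuleCat.{u} R)) = 0 :=
      TensorProduct.zero_tmul _ _
    exact (congrArg f.hom this).trans ((map_zero f.hom).trans
      ((map_zero g.hom).symm.trans (congrArg g.hom this).symm))
  | tmul s m => exact h s m n
  | add x y hx hy =>
    have : ((x + y : (EF ρ).obj M) ⊗ₜ[R] n : ((EF ρ).obj M ⊗ N : ModuleCat.{u} R)) =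
        (x : (EF ρ).obj M) ⊗ₜ[R] n + (y : (EF ρ).obj M) ⊗ₜ[R] n := TensorProduct.add_tmul _ _ _
    exact (congrArg f.hom this).trans ((map_add f.hom _ _).trans
      ((congrArg₂ (· + ·) hx hy).trans ((map_add g.hom _ _).symm.trans (congrArg g.hom this).symm)))

/-- the natural isomorphism of bifunctors `(R' ⊗ M) ⊗ N ≅ R' ⊗ (M ⊗ N)` -/
noncomputable def γmod : EF ρ ⋙ curriedTensor (ModuleCat.{u} R) ≅
    curriedTensor (ModuleCat.{u} R) ⋙ (Functor.whiskeringRight _ _ _).obj (EF ρ) :=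
  NatIso.ofComponents (fun M => NatIso.ofComponents (fun N => γmodApp ρ M N) (by
    intro N N' g
    exact hom_ext_EF_tensor ρ _ _ (fun s m n => rfl))) (by
    intro M M' f
    ext N : 2
    exact hom_ext_EF_tensor ρ _ _ (fun s m n => rfl))

@[simp]
lemma γmod_hom_app_app (M N : ModuleCat.{u} R) :
    ((γmod ρ).hom.app M).app N = (γmodApp ρ M N).hom := rfl

/-- maps out of `R' ⊗ M` agree if they agree on pure tensors -/
lemma hom_ext_EF {M : ModuleCat.{u} R} {Z : ModuleCat.{u} R}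
    (f g : (EF ρ).obj M ⟶ Z)
    (h : ∀ (s : R') (m : M), f.hom (s ⊗ₜ[R] m : (EF ρ).obj M) = g.hom (s ⊗ₜ[R] m : (EF ρ).obj M)) :
    f = g := by
  refine ModuleCat.hom_ext (LinearMap.ext (fun x => ?_))
  induction x using TensorProduct.induction_on with
  | zero => exact (map_zero f.hom).trans (map_zero g.hom).symm
  | tmul s m => exact h s m
  | add x y hx hy =>
    exact (map_add f.hom _ _).trans ((congrArg₂ (· + ·) hx hy).trans (map_add g.hom _ _).symm)

/-- unit compatibility of `γmod` -/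
lemma rightUnitor_inv_γmodApp (M : ModuleCat.{u} R) :
    (ρ_ ((EF ρ).obj M)).inv ≫ (γmodApp ρ M (𝟙_ (ModuleCat.{u} R))).hom =
      (EF ρ).map (ρ_ M).inv :=
  hom_ext_EF ρ _ _ (fun s m => rfl)

end ModLevel

section Square

variable {R A R' A' : Type u} [CommRing R] [CommRing A] [CommRing R'] [CommRing A']
  {φ : R →+* A} {ρ : R →+* R'} {α : A →+* A'} {φ' : R' →+* A'} (h : α.comp φ = φ'.comp ρ)

/-- the map `A ⊗_R (R' ⊗_R M) ⟶ A' ⊗_A (A ⊗_R M)`, `a ⊗ (s ⊗ m) ↦ (α a φ' s) ⊗ (1 ⊗ m)` -/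
noncomputable def lamMod (M : ModuleCat.{u} R) :
    (Helper5.Gen.extM φ).obj ((EF ρ).obj M) ⟶ (EF α).obj ((Helper5.Gen.extM φ).obj M) :=
  (Helper5.Gen.extM φ).map ((ModuleCat.restrictScalars.{u} ρ).map
      ((ModuleCat.extendScalars.{u, u, u} ρ).map ((adjE φ).unit.app M) ≫
        κmod h ((Helper5.Gen.extM φ).obj M)) ≫
      (TrivBC.resCommMod h).inv.app _) ≫
    (adjE φ).counit.app _

open ChangeOfRings in
lemma lamMod_tmul (M : ModuleCat.{u} R) (a : A) (s : R') (m : M) :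
    (lamMod h M).hom (a ⊗ₜ[R,φ] (s ⊗ₜ[R,ρ] m : (EF ρ).obj M)) =
      ((α a * (φ' s * 1)) ⊗ₜ[A,α] ((1 : A) ⊗ₜ[R,φ] m : (Helper5.Gen.extM φ).obj M) :
        (EF α).obj ((Helper5.Gen.extM φ).obj M)) := by
  rfl

/-- maps out of `A ⊗_R (R' ⊗_R M)` agree if they agree on pure tensors -/
lemma hom_ext_ext_EF {M : ModuleCat.{u} R} {Z : ModuleCat.{u} A}
    (f g : (Helper5.Gen.extM φ).obj ((EF ρ).obj M) ⟶ Z)
    (hfg : ∀ (a : A) (s : R') (m : M),
      f.hom (a ⊗ₜ[R] (s ⊗ₜ[R] m : (EF ρ).obj M) : (Helper5.Gen.extM φ).obj ((EF ρ).obj M)) =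
        g.hom (a ⊗ₜ[R] (s ⊗ₜ[R] m : (EF ρ).obj M) : (Helper5.Gen.extM φ).obj ((EF ρ).obj M))) :
    f = g := by
  refine ModuleCat.hom_ext (LinearMap.ext (fun y => ?_))
  induction y using TensorProduct.induction_on with
  | zero => exact (map_zero f.hom).trans (map_zero g.hom).symm
  | tmul a x =>
    induction x using TensorProduct.induction_on with
    | zero =>
      have : (a ⊗ₜ[R] (0 : (EF ρ).obj M) : (Helper5.Gen.extM φ).obj ((EF ρ).obj M)) = 0 :=
        TensorProduct.tmul_zero _ _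
      exact (congrArg f.hom this).trans ((map_zero f.hom).trans
        ((map_zero g.hom).symm.trans (congrArg g.hom this).symm))
    | tmul s m => exact hfg a s m
    | add x y hx hy =>
      have : (a ⊗ₜ[R] (x + y : (EF ρ).obj M) : (Helper5.Gen.extM φ).obj ((EF ρ).obj M)) =
          a ⊗ₜ[R] (x : (EF ρ).obj M) + a ⊗ₜ[R] (y : (EF ρ).obj M) := TensorProduct.tmul_add _ _ _
      exact (congrArg f.hom this).trans ((map_add f.hom _ _).trans
        ((congrArg₂ (· + ·) hx hy).trans ((map_add g.hom _ _).symm.trans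
          (congrArg g.hom this).symm)))
  | add x y hx hy =>
    exact (map_add f.hom _ _).trans ((congrArg₂ (· + ·) hx hy).trans (map_add g.hom _ _).symm)

lemma lamMod_naturality {M M' : ModuleCat.{u} R} (f : M ⟶ M') :
    (Helper5.Gen.extM φ).map ((EF ρ).map f) ≫ lamMod h M' =
      lamMod h M ≫ (EF α).map ((Helper5.Gen.extM φ).map f) :=
  hom_ext_ext_EF _ _ (fun a s m => rfl)

/-- maps out of `R' ⊗_R X` (as an `R'`-module) agree if they agree on pure tensors -/
lemma hom_ext_ext {X : ModuleCat.{u} R} {Z : ModuleCat.{u} R'}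
    (f g : (ModuleCat.extendScalars.{u, u, u} ρ).obj X ⟶ Z)
    (hfg : ∀ (s : R') (x : X),
      f.hom (s ⊗ₜ[R] x : (ModuleCat.extendScalars.{u, u, u} ρ).obj X) =
        g.hom (s ⊗ₜ[R] x : (ModuleCat.extendScalars.{u, u, u} ρ).obj X)) :
    f = g := by
  refine ModuleCat.hom_ext (LinearMap.ext (fun y => ?_))
  induction y using TensorProduct.induction_on with
  | zero => exact (map_zero f.hom).trans (map_zero g.hom).symm
  | tmul s x => exact hfg s x
  | add x y hx hy =>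
    exact (map_add f.hom _ _).trans ((congrArg₂ (· + ·) hx hy).trans (map_add g.hom _ _).symm)

lemma κmod_naturality {X X' : ModuleCat.{u} A} (g : X ⟶ X') :
    (ModuleCat.extendScalars.{u, u, u} ρ).map ((ModuleCat.restrictScalars.{u} φ).map g) ≫
        κmod h X' =
      κmod h X ≫ (ModuleCat.restrictScalars.{u} φ').map
        ((ModuleCat.extendScalars.{u, u, u} α).map g) :=
  hom_ext_ext _ _ (fun s x => rfl)

/-- **the module level square** relating the projection formula maps, `lamMod`, `γmod` and the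
base change comparison `κmod` -/
theorem sq_mod (M : ModuleCat.{u} R) (N : ModuleCat.{u} A) :
    bMap φ ((EF ρ).obj M) N ≫
        (resM φ).map ((lamMod h M ▷ N) ≫ (γmodApp α ((Helper5.Gen.extM φ).obj M) N).hom) ≫
        (TrivBC.resCommMod h).hom.app
          ((ModuleCat.extendScalars.{u, u, u} α).obj ((Helper5.Gen.extM φ).obj M ⊗ N)) =
      (γmodApp ρ M ((resM φ).obj N)).hom ≫ (EF ρ).map (bMap φ M N) ≫
        (ModuleCat.restrictScalars.{u} ρ).map (κmod h ((Helper5.Gen.extM φ).obj M ⊗ N)) := by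
  refine hom_ext_EF_tensor ρ _ _ (fun s m n => ?_)
  change (((α 1 * (φ' s * 1)) ⊗ₜ[A] (((1 : A) ⊗ₜ[R] m : (Helper5.Gen.extM φ).obj M) ⊗ₜ[A] n :
      ((Helper5.Gen.extM φ).obj M ⊗ N : ModuleCat.{u} A))) :
      (ModuleCat.extendScalars.{u, u, u} α).obj ((Helper5.Gen.extM φ).obj M ⊗ N)) =
    (((φ' s * 1) ⊗ₜ[A] (((1 : A) ⊗ₜ[R] m : (Helper5.Gen.extM φ).obj M) ⊗ₜ[A] n :
      ((Helper5.Gen.extM φ).obj M ⊗ N : ModuleCat.{u} A))) :
      (ModuleCat.extendScalars.{u, u, u} α).obj ((Helper5.Gen.extM φ).obj M ⊗ N))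
  rw [map_one, one_mul]
  rfl

end Square

end Groth.Agent.Lib.Helper5.TBC
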