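import Mathlib
import Groth.Prelude.Def_DTen5
import Groth.Agent.Lib.Helper5.TBC.GamMod

/-!
# Chain level maps for the base change of the mixed tensor product (helper5)
-/

set_option autoImplicit false
set_option backward.isDefEq.respectTransparency false
universe u
open CategoryTheory CategoryTheory.Limits MonoidalCategory

namespace Groth.Agent.Lib.Helper5.TBC
open DTen Helper5.Gen HomologicalComplex Groth.Agent.Lib.Helper5.KProj

section Precomp

variable {C₁ C₂ C₁' D : Type*} [Category C₁] [Category C₂] [Category C₁'] [Category D]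
  [HasZeroMorphisms C₁] [HasZeroMorphisms C₂] [HasZeroMorphisms C₁'] [Preadditive D]
  (G₁ : C₁' ⥤ C₁) [G₁.PreservesZeroMorphisms]
  (F : C₁ ⥤ C₂ ⥤ D) [F.PreservesZeroMorphisms] [∀ X₁, (F.obj X₁).PreservesZeroMorphisms]

instance preservesZeroMorphisms_precomp₁_obj (X₁ : C₁') :
    ((G₁ ⋙ F).obj X₁).PreservesZeroMorphisms :=
  (inferInstance : (F.obj (G₁.obj X₁)).PreservesZeroMorphisms)

variable [(G₁ ⋙ F).PreservesZeroMorphisms]
  {I₁ I₂ : Type*} {c₁ : ComplexShape I₁} {c₂ : ComplexShape I₂}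
  (K₁ : HomologicalComplex C₁' c₁) (K₂ : HomologicalComplex C₂ c₂)

/-- the bicomplex of `F` on `(G₁ K₁, K₂)` is the bicomplex of `G₁ ⋙ F` on `(K₁, K₂)` -/
noncomputable def precompIso₁ :
    ((F.mapBifunctorHomologicalComplex c₁ c₂).obj ((G₁.mapHomologicalComplex c₁).obj K₁)).obj K₂ ≅
      (((G₁ ⋙ F).mapBifunctorHomologicalComplex c₁ c₂).obj K₁).obj K₂ :=
  HomologicalComplex.Hom.isoOfComponents
    (fun i₁ => HomologicalComplex.Hom.isoOfComponents (fun i₂ => Iso.refl _) (fun i₂ i₂' _ => by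
      simp only [Iso.refl_hom, Category.id_comp, Category.comp_id]; rfl))
    (fun i₁ i₁' _ => HomologicalComplex.hom_ext _ _ (fun i₂ => by
      simp only [HomologicalComplex.comp_f, HomologicalComplex.Hom.isoOfComponents_hom_f, Iso.refl_hom,
        Category.id_comp, Category.comp_id]; rfl))

end Precomp

section Gamma

variable {R R' : Type u} [CommRing R] [CommRing R'] (ρ : R →+* R')

/-- termwise extension followed by restriction of scalars -/
noncomputable abbrev EFc : DRing.Cx R ⥤ DRing.Cx R :=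
  (EF ρ).mapHomologicalComplex (ComplexShape.up ℤ)

instance : (EF ρ).Additive := by
  dsimp only [EF]
  infer_instance

instance preservesTotal_EF {I₁ I₂ I₁₂ : Type} {c₁ : ComplexShape I₁} {c₂ : ComplexShape I₂}
    (c : ComplexShape I₁₂) [TotalComplexShape c₁ c₂ c]
    (K : HomologicalComplex₂ (ModuleCat.{u} R) c₁ c₂) :
    TotMap.PreservesTotal (EF ρ) K c := fun _ =>
  haveI := (ModuleCat.extendRestrictScalarsAdj.{u, u, u} ρ).leftAdjoint_preservesColimits
  inferInstance

/-- the chain level isomorphism `(R' ⊗ F) ⊗ V ≅ R' ⊗ (F ⊗ V)` -/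
noncomputable def γcx (F V : DRing.Cx R) : (EFc ρ).obj F ⊗ V ≅ (EFc ρ).obj (F ⊗ V) :=
  HomologicalComplex₂.total.mapIso
      (precompIso₁ (EF ρ) (curriedTensor (ModuleCat.{u} R)) F V) (ComplexShape.up ℤ) ≪≫
    TotMap.mapBifunctorNatIso F V (ComplexShape.up ℤ) (γmod ρ) ≪≫
    HomologicalComplex₂.total.mapIso
      (TotMap.mapBifunctorPostcompIso (curriedTensor (ModuleCat.{u} R)) (EF ρ) F V)
        (ComplexShape.up ℤ) ≪≫
    (TotMap.mapTotalIso (EF ρ) (tenBicx F V) (ComplexShape.up ℤ)).symm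

/-- the summand formula of `γcx` -/
@[reassoc]
lemma ι_γcx_hom (F V : DRing.Cx R) (p q n : ℤ) (h : p + q = n) :
    ιTensorObj ((EFc ρ).obj F) V p q n h ≫ (γcx ρ F V).hom.f n =
      (γmodApp ρ (F.X p) (V.X q)).hom ≫ (EF ρ).map (ιTensorObj F V p q n h) := by
  dsimp only [γcx]
  simp only [Iso.trans_hom, Iso.symm_hom, HomologicalComplex.comp_f,
    HomologicalComplex₂.total.mapIso_hom, ιTensorObj, ιMapBifunctor,
    TotMap.mapBifunctorNatIso_hom]
  erw [HomologicalComplex₂.ιTotal_map_assoc]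
  erw [TotMap.ι_mapBifunctorNatMap_assoc (γmod ρ).hom F V (ComplexShape.up ℤ) p q n h]
  erw [HomologicalComplex₂.ιTotal_map_assoc]
  erw [TotMap.ιTotal_mapTotalIso_inv_f (EF ρ) (tenBicx F V) (ComplexShape.up ℤ) p q n h]
  simp only [precompIso₁, HomologicalComplex.Hom.isoOfComponents_hom_f, Iso.refl_hom,
    Category.id_comp]
  rfl

@[reassoc]
lemma γmodApp_naturality_right (M : ModuleCat.{u} R) {N N' : ModuleCat.{u} R} (g : N ⟶ N') :
    ((EF ρ).obj M ◁ g) ≫ (γmodApp ρ M N').hom = (γmodApp ρ M N).hom ≫ (EF ρ).map (M ◁ g) :=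
  ((γmod ρ).hom.app M).naturality g

/-- `γcx` is natural in the second variable -/
lemma γcx_naturality_right (F : DRing.Cx R) {V V' : DRing.Cx R} (g : V ⟶ V') :
    ((EFc ρ).obj F ◁ g) ≫ (γcx ρ F V').hom = (γcx ρ F V).hom ≫ (EFc ρ).map (F ◁ g) := by
  refine HomologicalComplex.hom_ext _ _ (fun n =>
    HomologicalComplex.mapBifunctor.hom_ext (fun p q h => ?_))
  have h1 := ι_mapBifunctorMap (𝟙 ((EFc ρ).obj F)) g (curriedTensor (ModuleCat.{u} R))
    (ComplexShape.up ℤ) p q n h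
  rw [HomologicalComplex.id_f, CategoryTheory.Functor.map_id, NatTrans.id_app,
    Category.id_comp] at h1
  have h2 := ι_mapBifunctorMap (𝟙 F) g (curriedTensor (ModuleCat.{u} R))
    (ComplexShape.up ℤ) p q n h
  rw [HomologicalComplex.id_f, CategoryTheory.Functor.map_id, NatTrans.id_app,
    Category.id_comp] at h2
  rw [HomologicalComplex.comp_f, HomologicalComplex.comp_f]
  erw [reassoc_of% h1, ι_γcx_hom ρ F V' p q n h, ι_γcx_hom_assoc ρ F V p q n h]
  change ((EF ρ).obj (F.X p) ◁ g.f q) ≫ (γmodApp ρ (F.X p) (V'.X q)).hom ≫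
      (EF ρ).map (ιTensorObj F V' p q n h) =
    (γmodApp ρ (F.X p) (V.X q)).hom ≫ (EF ρ).map (ιTensorObj F V p q n h) ≫
      (EF ρ).map ((F ◁ g).f n)
  have h2' : ιTensorObj F V p q n h ≫ (F ◁ g).f n = (F.X p ◁ g.f q) ≫ ιTensorObj F V' p q n h :=
    h2
  rw [← Functor.map_comp, h2', Functor.map_comp]
  exact (Category.assoc _ _ _).symm.trans
    ((congrArg (· ≫ (EF ρ).map (ιTensorObj F V' p q n h))
      (γmodApp_naturality_right ρ (F.X p) (g.f q))).trans (Category.assoc _ _ _))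

/-- unit compatibility of `γcx`, inverse form -/
lemma γcx_unit_aux (F : DRing.Cx R) :
    (ρ_ ((EFc ρ).obj F)).inv ≫ (γcx ρ F (𝟙_ (DRing.Cx R))).hom = (EFc ρ).map (ρ_ F).inv := by
  ext i : 1
  have hL : (ρ_ ((EFc ρ).obj F)).inv.f i =
      (ρ_ (((EFc ρ).obj F).X i)).inv ≫
        ((((EFc ρ).obj F).X i) ◁
          (HomologicalComplex.singleObjXSelf (ComplexShape.up ℤ) 0 (𝟙_ (ModuleCat.{u} R))).inv) ≫
        ιTensorObj ((EFc ρ).obj F) (𝟙_ (DRing.Cx R)) i 0 i (add_zero i) :=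
    HomologicalComplex.rightUnitor'_inv ((EFc ρ).obj F) i
  have hR : (ρ_ F).inv.f i =
      (ρ_ (F.X i)).inv ≫
        ((F.X i) ◁
          (HomologicalComplex.singleObjXSelf (ComplexShape.up ℤ) 0 (𝟙_ (ModuleCat.{u} R))).inv) ≫
        ιTensorObj F (𝟙_ (DRing.Cx R)) i 0 i (add_zero i) :=
    HomologicalComplex.rightUnitor'_inv F i
  have key : (ρ_ ((EFc ρ).obj F)).inv.f i ≫ (γcx ρ F (𝟙_ (DRing.Cx R))).hom.f i =
      (EF ρ).map ((ρ_ F).inv.f i) := by
    rw [hL, hR]
    simp only [Category.assoc]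
    erw [ι_γcx_hom ρ F (𝟙_ (DRing.Cx R)) i 0 i (add_zero i)]
    rw [Functor.map_comp, Functor.map_comp, ← rightUnitor_inv_γmodApp, Category.assoc]
    congr 1
    exact (Category.assoc _ _ _).symm.trans
      ((congrArg (· ≫ (EF ρ).map (ιTensorObj F (𝟙_ (DRing.Cx R)) i 0 i (add_zero i)))
        (γmodApp_naturality_right ρ (F.X i)
          (HomologicalComplex.singleObjXSelf (ComplexShape.up ℤ) 0
            (𝟙_ (ModuleCat.{u} R))).inv)).trans (Category.assoc _ _ _))
  exact key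

/-- unit compatibility of `γcx` -/
lemma γcx_unit (F : DRing.Cx R) :
    (γcx ρ F (𝟙_ (DRing.Cx R))).hom ≫ (EFc ρ).map (ρ_ F).hom = (ρ_ ((EFc ρ).obj F)).hom := by
  rw [← cancel_epi (ρ_ ((EFc ρ).obj F)).inv, Iso.inv_hom_id, ← Category.assoc, γcx_unit_aux,
    ← Functor.map_comp, Iso.inv_hom_id, CategoryTheory.Functor.map_id]

end Gamma

section Square

variable {R A R' A' : Type u} [CommRing R] [CommRing A] [CommRing R'] [CommRing A']
  {φ : R →+* A} {ρ : R →+* R'} {α : A →+* A'} {φ' : R' →+* A'} (h : α.comp φ = φ'.comp ρ)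

/-- `lamMod` as a natural transformation -/
noncomputable def lamNat : EF ρ ⋙ Helper5.Gen.extM φ ⟶ Helper5.Gen.extM φ ⋙ EF α where
  app M := lamMod h M
  naturality _ _ f := lamMod_naturality h f

/-- the chain level map `A ⊗_R (R' ⊗_R F) ⟶ A' ⊗_A (A ⊗_R F)` -/
noncomputable def lamCx (F : DRing.Cx R) :
    (extCx φ).obj ((EFc ρ).obj F) ⟶ (EFc α).obj ((extCx φ).obj F) :=
  (NatTrans.mapHomologicalComplex (lamNat h) (ComplexShape.up ℤ)).app F

lemma lamCx_f (F : DRing.Cx R) (i : ℤ) : (lamCx h F).f i = lamMod h (F.X i) := rfl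

/-- the chain level map `(A ⊗_R (R' ⊗_R F)) ⊗_A W ⟶ A' ⊗_A ((A ⊗_R F) ⊗_A W)` -/
noncomputable def νcx (F : DRing.Cx R) (W : DRing.Cx A) :
    (extCx φ).obj ((EFc ρ).obj F) ⊗ W ⟶ (EFc α).obj ((extCx φ).obj F ⊗ W) :=
  (lamCx h F ▷ W) ≫ (γcx α ((extCx φ).obj F) W).hom

/-- **the chain level square** relating the projection formula maps, `νcx`, `γcx` and the base
change comparison `κcx` -/
theorem sq_cx (F : DRing.Cx R) (W : DRing.Cx A) :
    pf φ ((EFc ρ).obj F) W ≫ (rsCx φ).map (νcx h F W) ≫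
        (cxComm h ((bcCx α).obj ((extCx φ).obj F ⊗ W))).hom =
      (γcx ρ F ((resCx φ).obj W)).hom ≫ (EFc ρ).map (pf φ F W) ≫
        (rsCx ρ).map (κcx h ((extCx φ).obj F ⊗ W)) := by
  refine HomologicalComplex.hom_ext _ _ (fun n =>
    HomologicalComplex.mapBifunctor.hom_ext (fun p q hpq => ?_))
  have h1 := ι_pf φ ((EFc ρ).obj F) W p q n hpq
  have h2 := ι_mapBifunctorMap (lamCx h F) (𝟙 W) (curriedTensor (ModuleCat.{u} A))
    (ComplexShape.up ℤ) p q n hpq
  rw [HomologicalComplex.id_f, CategoryTheory.Functor.map_id, Category.id_comp] at h2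
  have h3 := ι_γcx_hom α ((extCx φ).obj F) W p q n hpq
  have h4 := ι_γcx_hom ρ F ((resCx φ).obj W) p q n hpq
  have h5 := ι_pf φ F W p q n hpq
  have h6 := κmod_naturality h (ιTensorObj ((extCx φ).obj F) W p q n hpq)
  have h7 := (TrivBC.resCommMod h).hom.naturality
    ((ModuleCat.extendScalars.{u, u, u} α).map (ιTensorObj ((extCx φ).obj F) W p q n hpq))
  have h8 := sq_mod h (F.X p) (W.X q)
  have eν : ιTensorObj ((extCx φ).obj ((EFc ρ).obj F)) W p q n hpq ≫ (νcx h F W).f n =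
      (lamMod h (F.X p) ▷ W.X q) ≫ (γmodApp α (((extCx φ).obj F).X p) (W.X q)).hom ≫
        (EF α).map (ιTensorObj ((extCx φ).obj F) W p q n hpq) := by
    dsimp only [νcx]
    rw [HomologicalComplex.comp_f]
    erw [reassoc_of% h2, h3]
    rfl
  simp only [HomologicalComplex.comp_f, Functor.mapHomologicalComplex_map_f, cxComm_hom_f,
    κcx_f]
  have hL : ιTensorObj ((EFc ρ).obj F) ((resCx φ).obj W) p q n hpq ≫
        (pf φ ((EFc ρ).obj F) W).f n ≫
          (ModuleCat.restrictScalars.{u} φ).map ((νcx h F W).f n) ≫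
            (TrivBC.resCommMod h).hom.app (((bcCx α).obj ((extCx φ).obj F ⊗ W)).X n) =
      (bMap φ ((EF ρ).obj (F.X p)) (W.X q) ≫
        (resM φ).map (lamMod h (F.X p) ▷ W.X q ≫
          (γmodApp α ((Helper5.Gen.extM φ).obj (F.X p)) (W.X q)).hom) ≫
        (TrivBC.resCommMod h).hom.app
          ((ModuleCat.extendScalars.{u, u, u} α).obj
            ((Helper5.Gen.extM φ).obj (F.X p) ⊗ W.X q))) ≫
      (ModuleCat.restrictScalars.{u} ρ).map ((ModuleCat.restrictScalars.{u} φ').map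
        ((ModuleCat.extendScalars.{u, u, u} α).map
          (ιTensorObj ((extCx φ).obj F) W p q n hpq))) := by
    rw [reassoc_of% h1]
    erw [← Functor.map_comp_assoc (ModuleCat.restrictScalars.{u} φ), eν]
    simp only [Category.assoc]
    erw [← h7]
    simp only [Functor.map_comp, Category.assoc]
    rfl
  have hR : ιTensorObj ((EFc ρ).obj F) ((resCx φ).obj W) p q n hpq ≫
        (γcx ρ F ((resCx φ).obj W)).hom.f n ≫ (EF ρ).map ((pf φ F W).f n) ≫
          (ModuleCat.restrictScalars.{u} ρ).map (κmod h (((extCx φ).obj F ⊗ W).X n)) =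
      ((γmodApp ρ (F.X p) ((resM φ).obj (W.X q))).hom ≫ (EF ρ).map (bMap φ (F.X p) (W.X q)) ≫
        (ModuleCat.restrictScalars.{u} ρ).map
          (κmod h ((Helper5.Gen.extM φ).obj (F.X p) ⊗ W.X q))) ≫
      (ModuleCat.restrictScalars.{u} ρ).map ((ModuleCat.restrictScalars.{u} φ').map
        ((ModuleCat.extendScalars.{u, u, u} α).map
          (ιTensorObj ((extCx φ).obj F) W p q n hpq))) := by
    have e : (EF ρ).map (bMap φ (F.X p) (W.X q) ≫
          (resM φ).map (ιTensorObj ((extCx φ).obj F) W p q n hpq)) ≫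
        (ModuleCat.restrictScalars.{u} ρ).map (κmod h (((extCx φ).obj F ⊗ W).X n)) =
        (EF ρ).map (bMap φ (F.X p) (W.X q)) ≫
          (ModuleCat.restrictScalars.{u} ρ).map
            (κmod h ((Helper5.Gen.extM φ).obj (F.X p) ⊗ W.X q)) ≫
          (ModuleCat.restrictScalars.{u} ρ).map ((ModuleCat.restrictScalars.{u} φ').map
            ((ModuleCat.extendScalars.{u, u, u} α).map
              (ιTensorObj ((extCx φ).obj F) W p q n hpq))) := by
      rw [Functor.map_comp, Category.assoc]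
      congr 1
      change (ModuleCat.restrictScalars.{u} ρ).map ((ModuleCat.extendScalars.{u, u, u} ρ).map
          ((ModuleCat.restrictScalars.{u} φ).map (ιTensorObj ((extCx φ).obj F) W p q n hpq))) ≫
        (ModuleCat.restrictScalars.{u} ρ).map (κmod h (((extCx φ).obj F ⊗ W).X n)) = _
      rw [← Functor.map_comp]
      erw [h6]
      rw [Functor.map_comp]
      rfl
    rw [reassoc_of% h4]
    erw [← Functor.map_comp_assoc (EF ρ), h5]
    simp only [Category.assoc]
    exact congrArg (_ ≫ ·) e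
  exact hL.trans ((congrArg (· ≫ _) h8).trans hR.symm)

end Square

end Groth.Agent.Lib.Helper5.TBC
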