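import Mathlib
import Groth.Prelude.Def_TrivBC
import Groth.Agent.Lib.Helper5.TBC.Formal
import Groth.Agent.Lib.Helper5.TBC.GamCx
import Groth.Agent.Lib.Helper5.Gen.LTModel
import Groth.Agent.Lib.Helper5.HomCx.KProjTensor

/-!
# Base change for trivial duality along a perfect ring map: preparations (helper5)
-/

set_option autoImplicit false
universe u
open CategoryTheory CategoryTheory.Limits DerivedCategory MonoidalCategory
attribute [local instance] HasDerivedCategory.standard

namespace Groth.Agent.Lib.Helper5.TBC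
open Groth.Agent.Lib.Helper5.DTenLib Helper5.Gen Groth.Agent.Lib.Helper5.KProj DTen

section Tau

variable {R A : Type u} [CommRing R] [CommRing A] (φ : R →+* A)
  {Rφ : Dual.D R ⥤ Dual.D A} (adj : DRing.restrictD φ ⊣ Rφ)
  (hperf : DRing.IsPerfect R ((DRing.restrictD φ).obj (Dual.inD A A)))
  (W : DRing.Cx A) (c : (DRing.restrictD φ).obj (Q.obj W) ⟶ Q.obj (𝟙_ (DRing.Cx R)))
  (hc : IsIso (adj.homEquiv _ _ c))

include hperf hc in
/-- for `A` perfect over `R`, the adjunct `Q((F ⊗_R A) ⊗_A W) ⟶ Rφ(QF)` of the counit is an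
isomorphism for every K-projective `F` -/
theorem isIso_tau (F : DRing.Cx R) (hF : F.IsKProjective) :
    IsIso (tau φ W c adj F (@isKFlat_of_isKProjective _ _ F hF)) := by
  haveI := hasLTensorCx W
  let m := ltModel φ W
  obtain ⟨τ, hτ⟩ := exists_natTrans (DRing.LBaseChange φ ⋙ DRing.LTensorCx A W) Rφ
    (fun F hF => (m.iso F hF).hom ≫ tau φ W c adj F (@isKFlat_of_isKProjective _ _ F hF))
    (fun F F' hF hF' f => by
      rw [← Category.assoc, m.iso_hom_naturality hF hF' f, Category.assoc,
        tau_naturality φ W c adj (@isKFlat_of_isKProjective _ _ F hF)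
          (@isKFlat_of_isKProjective _ _ F' hF') f, Category.assoc])
  haveI : IsIso τ := by
    refine isIso_of_perfect φ adj hperf _ m.coyExact m.presCoprod τ (fun n => ?_)
    have hU : (Un (R := R) n).IsKProjective := inferInstance
    have e : Q.obj (Un (R := R) n) ≅ (Dual.inD R R)⟦n⟧ :=
      (Q.commShiftIso n).app (𝟙_ (DRing.Cx R))
    refine isIso_app_of_iso τ e ?_
    rw [hτ _ hU]
    haveI := isIso_tau_unit_shift φ W c adj n (@isKFlat_of_isKProjective _ _ _ hU) hc
    infer_instance
  have e : tau φ W c adj F (@isKFlat_of_isKProjective _ _ F hF) =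
      (m.iso F hF).inv ≫ τ.app (Q.obj F) := by
    rw [hτ F hF, Iso.inv_hom_id_assoc]
  rw [e]
  infer_instance

end Tau

section RL

variable {R R' : Type u} [CommRing R] [CommRing R'] (ρ : R →+* R')

/-- `(G ⊗^L_R R')|_R` is computed termwise on a K-projective complex -/
noncomputable def rlIso (G : DRing.Cx R) [G.IsKProjective] :
    (DRing.restrictD ρ).obj ((DRing.LBaseChange ρ).obj (Q.obj G)) ≅
      Q.obj ((rsCx ρ).obj ((bcCx ρ).obj G)) :=
  (DRing.restrictD ρ).mapIso (lbcIso ρ G) ≪≫ (resFactors ρ).app ((bcCx ρ).obj G)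

lemma rlIso_hom (G : DRing.Cx R) [G.IsKProjective] :
    (rlIso ρ G).hom = (DRing.restrictD ρ).map ((lbcCmp ρ).app G) ≫
      (resFactors ρ).hom.app ((bcCx ρ).obj G) := rfl

lemma rlIso_naturality {G G' : DRing.Cx R} [G.IsKProjective] [G'.IsKProjective] (f : G ⟶ G') :
    (DRing.restrictD ρ).map ((DRing.LBaseChange ρ).map (Q.map f)) ≫ (rlIso ρ G').hom =
      (rlIso ρ G).hom ≫ Q.map ((rsCx ρ).map ((bcCx ρ).map f)) := by
  have e1 := (lbcCmp ρ).naturality f
  have e2 := (resFactors ρ).hom.naturality ((bcCx ρ).map f)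
  dsimp at e1 e2
  rw [rlIso_hom, rlIso_hom, ← Functor.map_comp_assoc, e1, Functor.map_comp_assoc, e2,
    Category.assoc]

end RL

section Square

variable {R A R' A' : Type u} [CommRing R] [CommRing A] [CommRing R'] [CommRing A']
  {φ : R →+* A} {ρ : R →+* R'} {α : A →+* A'} {φ' : R' →+* A'} (h : α.comp φ = φ'.comp ρ)

/-- the canonical commutation isomorphism at a derived base change, in chain level terms -/
lemma resComm_lbc (P : DRing.Cx A) [P.IsKProjective] :
    (TrivBC.resComm h).hom.app ((DRing.LBaseChange α).obj (Q.obj P)) ≫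
        (DRing.restrictD ρ).map ((DRing.restrictD φ').map ((lbcCmp α).app P) ≫
          (resFactors φ').hom.app ((bcCx α).obj P)) =
      (DRing.restrictD φ).map (rlIso α P).hom ≫
        (resFactors φ).hom.app ((rsCx α).obj ((bcCx α).obj P)) ≫
        Q.map (cxComm h ((bcCx α).obj P)).hom ≫
        (resFactors ρ).inv.app ((rsCx φ').obj ((bcCx α).obj P)) := by
  have e := (TrivBC.resComm h).hom.naturality ((lbcCmp α).app P)
  dsimp at e
  rw [Functor.map_comp, ← Category.assoc, ← e, Category.assoc, resComm_hom_app_Q, rlIso_hom,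
    Functor.map_comp]
  simp only [Category.assoc]
  rw [← Functor.map_comp, Iso.inv_hom_id_app]
  erw [CategoryTheory.Functor.map_id, Category.comp_id]

end Square

end Groth.Agent.Lib.Helper5.TBC
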