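import Mathlib
import Groth.Prelude.Def_TrivBC
import Groth.Agent.Lib.Helper5.TBC.Core1

/-!
# Base change for trivial duality along a perfect ring map: the chain level squares (helper5)
-/

set_option autoImplicit false
universe u
open CategoryTheory CategoryTheory.Limits DerivedCategory MonoidalCategory
attribute [local instance] HasDerivedCategory.standard

namespace Groth.Agent.Lib.Helper5.TBC
open Groth.Agent.Lib.Helper5.DTenLib Helper5.Gen Groth.Agent.Lib.Helper5.KProj DTen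

section Chain

variable {R A R' A' : Type u} [CommRing R] [CommRing A] [CommRing R'] [CommRing A']
  {φ : R →+* A} {ρ : R →+* R'} {α : A →+* A'} {φ' : R' →+* A'} (h : α.comp φ = φ'.comp ρ)
  (W : DRing.Cx A) (c : (DRing.restrictD φ).obj (Q.obj W) ⟶ Q.obj (𝟙_ (DRing.Cx R)))

variable (φ) in
/-- the resolution `F ⊗ V ⟶ ((F ⊗_R A) ⊗_A W)|_R`, `V ⟶ W|_R` the K-projective resolution -/
noncomputable def rF (F : DRing.Cx R) :
    F ⊗ Vres φ W ⟶ (rsCx φ).obj ((GW φ W).obj F) :=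
  (F ◁ sV φ W) ≫ pf φ F W

variable (φ) in
/-- the chain map `F ⊗ V ⟶ F` induced by the given map `W|_R ⟶ R` -/
noncomputable def sF (F : DRing.Cx R) : F ⊗ Vres φ W ⟶ F :=
  (F ◁ tV φ W c) ≫ (ρ_ F).hom

variable (ρ) in
/-- the K-projective resolution of `(F₀ ⊗_R R')|_R` -/
noncomputable abbrev F1 (F₀ : DRing.Cx R) : DRing.Cx R := res ((EFc ρ).obj F₀)

variable (ρ) in
/-- the resolution map -/
noncomputable abbrev q1 (F₀ : DRing.Cx R) : F1 ρ F₀ ⟶ (EFc ρ).obj F₀ := resMap ((EFc ρ).obj F₀)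

/-- the comparison `(F₁ ⊗_R A) ⊗_A W ⟶ (((F₀ ⊗_R A) ⊗_A W) ⊗_A A')|_A` -/
noncomputable def ιcx (F₀ : DRing.Cx R) :
    (GW φ W).obj (F1 ρ F₀) ⟶ (rsCx α).obj ((bcCx α).obj ((GW φ W).obj F₀)) :=
  (GW φ W).map (q1 ρ F₀) ≫ νcx h F₀ W

variable (φ ρ) in
/-- the comparison `F₁ ⊗ V ⟶ ((F₀ ⊗ V) ⊗_R R')|_R` -/
noncomputable def γres (F₀ : DRing.Cx R) :
    F1 ρ F₀ ⊗ Vres φ W ⟶ (rsCx ρ).obj ((bcCx ρ).obj (F₀ ⊗ Vres φ W)) :=
  (q1 ρ F₀ ▷ Vres φ W) ≫ (γcx ρ F₀ (Vres φ W)).hom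

/-- the first chain level square -/
theorem sq1 (F₀ : DRing.Cx R) :
    rF φ W (F1 ρ F₀) ≫ (rsCx φ).map (ιcx h W F₀) ≫
        (cxComm h ((bcCx α).obj ((GW φ W).obj F₀))).hom =
      γres φ ρ W F₀ ≫ (rsCx ρ).map (Θ h ((GW φ W).obj F₀) (rF φ W F₀)) := by
  have e1 := pf_naturality φ W (q1 ρ F₀)
  have e2 := MonoidalCategory.whisker_exchange (q1 ρ F₀) (sV φ W)
  have e3 := sq_cx h F₀ W
  have e4 := γcx_naturality_right ρ F₀ (sV φ W)
  have e5 : (rsCx ρ).map (Θ h ((GW φ W).obj F₀) (rF φ W F₀)) =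
      (EFc ρ).map (F₀ ◁ sV φ W) ≫ (EFc ρ).map (pf φ F₀ W) ≫
        (rsCx ρ).map (κcx h ((GW φ W).obj F₀)) := by
    rw [Θ_eq, Functor.map_comp]
    dsimp only [rF]
    rw [Functor.map_comp, Functor.map_comp, Category.assoc]
    rfl
  have e1' : pf φ (F1 ρ F₀) W ≫ (rsCx φ).map ((GW φ W).map (q1 ρ F₀)) =
      (q1 ρ F₀ ▷ (resCx φ).obj W) ≫ pf φ ((EFc ρ).obj F₀) W := e1.symm
  have e3' : pf φ ((EFc ρ).obj F₀) W ≫ (rsCx φ).map (νcx h F₀ W) ≫
        (cxComm h ((bcCx α).obj ((GW φ W).obj F₀))).hom =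
      (γcx ρ F₀ ((resCx φ).obj W)).hom ≫ (EFc ρ).map (pf φ F₀ W) ≫
        (rsCx ρ).map (κcx h ((GW φ W).obj F₀)) := e3
  rw [e5]
  dsimp only [rF, ιcx, γres]
  rw [Functor.map_comp]
  simp only [Category.assoc]
  calc F1 ρ F₀ ◁ sV φ W ≫ pf φ (F1 ρ F₀) W ≫ (rsCx φ).map ((GW φ W).map (q1 ρ F₀)) ≫
        (rsCx φ).map (νcx h F₀ W) ≫ (cxComm h ((bcCx α).obj ((GW φ W).obj F₀))).hom
      = F1 ρ F₀ ◁ sV φ W ≫ (pf φ (F1 ρ F₀) W ≫ (rsCx φ).map ((GW φ W).map (q1 ρ F₀))) ≫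
        (rsCx φ).map (νcx h F₀ W) ≫ (cxComm h ((bcCx α).obj ((GW φ W).obj F₀))).hom := by
        simp only [Category.assoc]
    _ = (F1 ρ F₀ ◁ sV φ W ≫ q1 ρ F₀ ▷ (resCx φ).obj W) ≫ (pf φ ((EFc ρ).obj F₀) W ≫
        (rsCx φ).map (νcx h F₀ W) ≫ (cxComm h ((bcCx α).obj ((GW φ W).obj F₀))).hom) := by
        rw [e1']
        simp only [Category.assoc]
    _ = (q1 ρ F₀ ▷ Vres φ W ≫ (EFc ρ).obj F₀ ◁ sV φ W) ≫
        ((γcx ρ F₀ ((resCx φ).obj W)).hom ≫ (EFc ρ).map (pf φ F₀ W) ≫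
          (rsCx ρ).map (κcx h ((GW φ W).obj F₀))) := by rw [e2, e3']
    _ = q1 ρ F₀ ▷ Vres φ W ≫ ((EFc ρ).obj F₀ ◁ sV φ W ≫ (γcx ρ F₀ ((resCx φ).obj W)).hom) ≫
        (EFc ρ).map (pf φ F₀ W) ≫ (rsCx ρ).map (κcx h ((GW φ W).obj F₀)) := by
        simp only [Category.assoc]
    _ = _ := by
        rw [e4]
        simp only [Category.assoc]
        rfl

/-- the second chain level square -/
theorem sq2 (F₀ : DRing.Cx R) :
    sF φ W c (F1 ρ F₀) ≫ q1 ρ F₀ =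
      γres φ ρ W F₀ ≫ (rsCx ρ).map ((bcCx ρ).map (sF φ W c F₀)) := by
  have e1 := MonoidalCategory.rightUnitor_naturality (q1 ρ F₀)
  have e2 := MonoidalCategory.whisker_exchange (q1 ρ F₀) (tV φ W c)
  have e3 := γcx_naturality_right ρ F₀ (tV φ W c)
  have e4 := γcx_unit ρ F₀
  have e5 : (rsCx ρ).map ((bcCx ρ).map (sF φ W c F₀)) =
      (EFc ρ).map (F₀ ◁ tV φ W c) ≫ (EFc ρ).map (ρ_ F₀).hom := by
    dsimp only [sF]
    rw [Functor.map_comp, Functor.map_comp]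
    rfl
  rw [e5]
  dsimp only [sF, γres]
  calc (F1 ρ F₀ ◁ tV φ W c ≫ (ρ_ (F1 ρ F₀)).hom) ≫ q1 ρ F₀
      = F1 ρ F₀ ◁ tV φ W c ≫ (ρ_ (F1 ρ F₀)).hom ≫ q1 ρ F₀ := by simp only [Category.assoc]
    _ = (F1 ρ F₀ ◁ tV φ W c ≫ q1 ρ F₀ ▷ 𝟙_ (DRing.Cx R)) ≫ (ρ_ ((EFc ρ).obj F₀)).hom := by
        rw [← e1]
        simp only [Category.assoc]
    _ = q1 ρ F₀ ▷ Vres φ W ≫ ((EFc ρ).obj F₀ ◁ tV φ W c ≫
          (γcx ρ F₀ (𝟙_ (DRing.Cx R))).hom) ≫ (EFc ρ).map (ρ_ F₀).hom := by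
        rw [e2, ← e4]
        simp only [Category.assoc]
    _ = _ := by
        rw [e3]
        simp only [Category.assoc]
        rfl

end Chain

section Derived

variable {R A R' A' : Type u} [CommRing R] [CommRing A] [CommRing R'] [CommRing A']
  {φ : R →+* A} {ρ : R →+* R'} {α : A →+* A'} {φ' : R' →+* A'} (h : α.comp φ = φ'.comp ρ)
  (W : DRing.Cx A) [W.IsKProjective]
  (c : (DRing.restrictD φ).obj (Q.obj W) ⟶ Q.obj (𝟙_ (DRing.Cx R)))

instance isKProjective_GW (F : DRing.Cx R) [F.IsKProjective] :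
    ((GW φ W).obj F).IsKProjective :=
  Groth.Agent.Lib.Helper5.HomCx.isKProjective_tensor _ _

instance isKProjective_tensor_Vres (F : DRing.Cx R) [F.IsKProjective] :
    (F ⊗ Vres φ W).IsKProjective :=
  Groth.Agent.Lib.Helper5.HomCx.isKProjective_tensor _ _

instance quasiIso_rF (F : DRing.Cx R) [F.IsKProjective] : QuasiIso (rF φ W F) := by
  haveI := Groth.Agent.Lib.Helper5.KFlat.quasiIso_whiskerLeft (isKFlat_of_isKProjective F)
    (sV φ W) inferInstance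
  dsimp only [rF]
  infer_instance

instance isIso_Q_rF (F : DRing.Cx R) [F.IsKProjective] : IsIso (Q.map (rF φ W F)) := by
  rw [DerivedCategory.isIso_Q_map_iff_quasiIso]
  infer_instance

/-- the counit `sigma` in terms of the resolution `rF` and the chain map `sF` -/
lemma sigma_eq (F : DRing.Cx R) [F.IsKProjective] :
    sigma φ W c F (isKFlat_of_isKProjective F) =
      (resFactors φ).hom.app ((GW φ W).obj F) ≫ inv (Q.map (rF φ W F)) ≫
        Q.map (sF φ W c F) := by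
  haveI := isIso_Q_whiskerLeft_sV φ W F (isKFlat_of_isKProjective F)
  have e : inv (Q.map (rF φ W F)) = inv (Q.map (pf φ F W)) ≫ inv (Q.map (F ◁ sV φ W)) := by
    apply IsIso.inv_eq_of_hom_inv_id
    have e0 : Q.map (rF φ W F) = Q.map (F ◁ sV φ W) ≫ Q.map (pf φ F W) := Q.map_comp _ _
    rw [e0, Category.assoc, IsIso.hom_inv_id_assoc, IsIso.hom_inv_id]
  dsimp only [sigma, roof, sF]
  rw [e, Q.map_comp]
  simp only [Category.assoc]

variable (F₀ : DRing.Cx R) [F₀.IsKProjective]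

/-- the comparison `cmp` at `Q P₀`, followed by the termwise identification -/
noncomputable def Ycmp :
    (DRing.LBaseChange ρ).obj ((DRing.restrictD φ).obj (Q.obj ((GW φ W).obj F₀))) ⟶
      Q.obj ((rsCx φ').obj ((bcCx α).obj ((GW φ W).obj F₀))) :=
  TrivBC.cmp (myAdj ρ) (myAdj α) h (Q.obj ((GW φ W).obj F₀)) ≫
    (DRing.restrictD φ').map ((lbcCmp α).app ((GW φ W).obj F₀)) ≫
      (resFactors φ').hom.app ((bcCx α).obj ((GW φ W).obj F₀))

lemma isIso_Ycmp (hcmp : IsIso (TrivBC.cmp (myAdj ρ) (myAdj α) h (Q.obj ((GW φ W).obj F₀)))) :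
    IsIso (Ycmp h W F₀) := by
  dsimp only [Ycmp]
  infer_instance

/-- the isomorphism `Q(F₀ ⊗ V) ≅ (Q P₀)|_R` -/
noncomputable def uIsoQ :
    Q.obj (F₀ ⊗ Vres φ W) ⟶ (DRing.restrictD φ).obj (Q.obj ((GW φ W).obj F₀)) :=
  Q.map (rF φ W F₀) ≫ (resFactors φ).inv.app ((GW φ W).obj F₀)

instance : IsIso (uIsoQ W F₀ (φ := φ)) := by
  dsimp only [uIsoQ]
  infer_instance

lemma cmp_Q_eq' :
    (DRing.LBaseChange ρ).map (uIsoQ W F₀) ≫ Ycmp h W F₀ =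
      (lbcCmp ρ).app (F₀ ⊗ Vres φ W) ≫ Q.map (Θ h ((GW φ W).obj F₀) (rF φ W F₀)) :=
  cmp_Q_eq h ((GW φ W).obj F₀) (rF φ W F₀)

lemma uIsoQ_sigma :
    uIsoQ W F₀ ≫ sigma φ W c F₀ (isKFlat_of_isKProjective F₀) = Q.map (sF φ W c F₀) := by
  rw [sigma_eq]
  dsimp only [uIsoQ]
  simp only [Category.assoc, Iso.inv_hom_id_app_assoc, IsIso.hom_inv_id_assoc]

lemma isIso_Q_Θ (hcmp : IsIso (TrivBC.cmp (myAdj ρ) (myAdj α) h (Q.obj ((GW φ W).obj F₀)))) :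
    IsIso (Q.map (Θ h ((GW φ W).obj F₀) (rF φ W F₀))) := by
  haveI := isIso_Ycmp h W F₀ hcmp
  have e : Q.map (Θ h ((GW φ W).obj F₀) (rF φ W F₀)) =
      inv ((lbcCmp ρ).app (F₀ ⊗ Vres φ W)) ≫ (DRing.LBaseChange ρ).map (uIsoQ W F₀) ≫
        Ycmp h W F₀ := by
    rw [cmp_Q_eq', IsIso.inv_hom_id_assoc]
  rw [e]
  infer_instance

/-- the map `n₀ : Q(Z₀|_{R'}) ⟶ Q F₀ ⊗^L R'` -/
noncomputable def n0 (hcmp : IsIso (TrivBC.cmp (myAdj ρ) (myAdj α) h (Q.obj ((GW φ W).obj F₀)))) :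
    Q.obj ((rsCx φ').obj ((bcCx α).obj ((GW φ W).obj F₀))) ⟶
      (DRing.LBaseChange ρ).obj (Q.obj F₀) :=
  haveI := isIso_Ycmp h W F₀ hcmp
  inv (Ycmp h W F₀) ≫ (DRing.LBaseChange ρ).map (sigma φ W c F₀ (isKFlat_of_isKProjective F₀))

lemma Θ_n0 (hcmp : IsIso (TrivBC.cmp (myAdj ρ) (myAdj α) h (Q.obj ((GW φ W).obj F₀)))) :
    Q.map (Θ h ((GW φ W).obj F₀) (rF φ W F₀)) ≫ n0 h W c F₀ hcmp =
      Q.map ((bcCx ρ).map (sF φ W c F₀)) ≫ inv ((lbcCmp ρ).app F₀) := by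
  haveI := isIso_Ycmp h W F₀ hcmp
  have e1 : Q.map (Θ h ((GW φ W).obj F₀) (rF φ W F₀)) ≫ inv (Ycmp h W F₀) =
      inv ((lbcCmp ρ).app (F₀ ⊗ Vres φ W)) ≫ (DRing.LBaseChange ρ).map (uIsoQ W F₀) := by
    rw [IsIso.comp_inv_eq, Category.assoc, cmp_Q_eq', IsIso.inv_hom_id_assoc]
  have e2 := (lbcCmp ρ).naturality (sF φ W c F₀)
  dsimp at e2
  dsimp only [n0]
  rw [← Category.assoc, e1, Category.assoc, ← Functor.map_comp, uIsoQ_sigma, IsIso.inv_comp_eq,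
    ← Category.assoc, ← e2, Category.assoc, IsIso.hom_inv_id, Category.comp_id]

lemma inv_cmp_sigma (hcmp : IsIso (TrivBC.cmp (myAdj ρ) (myAdj α) h (Q.obj ((GW φ W).obj F₀)))) :
    inv (TrivBC.cmp (myAdj ρ) (myAdj α) h (Q.obj ((GW φ W).obj F₀))) ≫
        (DRing.LBaseChange ρ).map (sigma φ W c F₀ (isKFlat_of_isKProjective F₀)) =
      ((DRing.restrictD φ').map ((lbcCmp α).app ((GW φ W).obj F₀)) ≫
        (resFactors φ').hom.app ((bcCx α).obj ((GW φ W).obj F₀))) ≫ n0 h W c F₀ hcmp := by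
  haveI := isIso_Ycmp h W F₀ hcmp
  dsimp only [n0]
  rw [IsIso.inv_comp_eq]
  have e : TrivBC.cmp (myAdj ρ) (myAdj α) h (Q.obj ((GW φ W).obj F₀)) ≫
      ((DRing.restrictD φ').map ((lbcCmp α).app ((GW φ W).obj F₀)) ≫
        (resFactors φ').hom.app ((bcCx α).obj ((GW φ W).obj F₀))) ≫
      inv (Ycmp h W F₀) ≫
        (DRing.LBaseChange ρ).map (sigma φ W c F₀ (isKFlat_of_isKProjective F₀)) =
      (Ycmp h W F₀ ≫ inv (Ycmp h W F₀)) ≫
        (DRing.LBaseChange ρ).map (sigma φ W c F₀ (isKFlat_of_isKProjective F₀)) := by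
    dsimp only [Ycmp]
    simp only [Category.assoc]
  rw [e, IsIso.hom_inv_id, Category.id_comp]

lemma rlIso_inv (G : DRing.Cx R) [G.IsKProjective] :
    (rlIso ρ G).inv = (resFactors ρ).inv.app ((bcCx ρ).obj G) ≫
      (DRing.restrictD ρ).map (inv ((lbcCmp ρ).app G)) := by
  dsimp only [rlIso, lbcIso, Iso.trans_inv, Functor.mapIso_inv, asIso_inv, Iso.app_inv]

/-- **the key identity** in `D(R)` -/
theorem star (hcmp : IsIso (TrivBC.cmp (myAdj ρ) (myAdj α) h (Q.obj ((GW φ W).obj F₀)))) :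
    (DRing.restrictD φ).map (Q.map (ιcx h W F₀) ≫ (rlIso α ((GW φ W).obj F₀)).inv) ≫
      (TrivBC.resComm h).hom.app ((DRing.LBaseChange α).obj (Q.obj ((GW φ W).obj F₀))) ≫
      (DRing.restrictD ρ).map
        (inv (TrivBC.cmp (myAdj ρ) (myAdj α) h (Q.obj ((GW φ W).obj F₀))) ≫
          (DRing.LBaseChange ρ).map (sigma φ W c F₀ (isKFlat_of_isKProjective F₀))) =
    sigma φ W c (F1 ρ F₀) (isKFlat_of_isKProjective _) ≫ Q.map (q1 ρ F₀) ≫
      (rlIso ρ F₀).inv := by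
  have hA : (DRing.restrictD φ).map (rlIso α ((GW φ W).obj F₀)).inv ≫
      (TrivBC.resComm h).hom.app ((DRing.LBaseChange α).obj (Q.obj ((GW φ W).obj F₀))) ≫
      (DRing.restrictD ρ).map ((DRing.restrictD φ').map ((lbcCmp α).app ((GW φ W).obj F₀)) ≫
        (resFactors φ').hom.app ((bcCx α).obj ((GW φ W).obj F₀))) =
      (resFactors φ).hom.app ((rsCx α).obj ((bcCx α).obj ((GW φ W).obj F₀))) ≫
        Q.map (cxComm h ((bcCx α).obj ((GW φ W).obj F₀))).hom ≫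
        (resFactors ρ).inv.app ((rsCx φ').obj ((bcCx α).obj ((GW φ W).obj F₀))) := by
    rw [resComm_lbc, ← Functor.map_comp_assoc, Iso.inv_hom_id, CategoryTheory.Functor.map_id,
      Category.id_comp]
  have hB := (resFactors φ).hom.naturality (ιcx h W F₀)
  have hD := (resFactors ρ).inv.naturality (Θ h ((GW φ W).obj F₀) (rF φ W F₀))
  have hE := (resFactors ρ).inv.naturality ((bcCx ρ).map (sF φ W c F₀))
  dsimp only [Functor.comp_map] at hB hD hE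
  have hN := Θ_n0 h W c F₀ hcmp
  have h1 : Q.map (rF φ W (F1 ρ F₀)) ≫ Q.map ((rsCx φ).map (ιcx h W F₀)) ≫
        Q.map (cxComm h ((bcCx α).obj ((GW φ W).obj F₀))).hom =
      Q.map (γres φ ρ W F₀) ≫ Q.map ((rsCx ρ).map (Θ h ((GW φ W).obj F₀) (rF φ W F₀))) := by
    rw [← Q.map_comp, ← Q.map_comp, ← Q.map_comp]
    exact congrArg (fun f => Q.map f) (sq1 h W F₀)
  have h2 : Q.map (sF φ W c (F1 ρ F₀)) ≫ Q.map (q1 ρ F₀) =
      Q.map (γres φ ρ W F₀) ≫ Q.map ((rsCx ρ).map ((bcCx ρ).map (sF φ W c F₀))) :=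
    (Q.map_comp _ _).symm.trans
      ((congrArg (fun f => Q.map f) (sq2 (ρ := ρ) W c F₀)).trans (Q.map_comp _ _))
  -- the common part
  have hC : Q.map (rF φ W (F1 ρ F₀)) ≫ Q.map ((rsCx φ).map (ιcx h W F₀)) ≫
      Q.map (cxComm h ((bcCx α).obj ((GW φ W).obj F₀))).hom ≫
      (resFactors ρ).inv.app ((rsCx φ').obj ((bcCx α).obj ((GW φ W).obj F₀))) ≫
      (DRing.restrictD ρ).map (n0 h W c F₀ hcmp) =
      Q.map (sF φ W c (F1 ρ F₀)) ≫ Q.map (q1 ρ F₀) ≫ (rlIso ρ F₀).inv := by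
    calc Q.map (rF φ W (F1 ρ F₀)) ≫ Q.map ((rsCx φ).map (ιcx h W F₀)) ≫
          Q.map (cxComm h ((bcCx α).obj ((GW φ W).obj F₀))).hom ≫
          (resFactors ρ).inv.app ((rsCx φ').obj ((bcCx α).obj ((GW φ W).obj F₀))) ≫
          (DRing.restrictD ρ).map (n0 h W c F₀ hcmp)
        = (Q.map (rF φ W (F1 ρ F₀)) ≫ Q.map ((rsCx φ).map (ιcx h W F₀)) ≫
          Q.map (cxComm h ((bcCx α).obj ((GW φ W).obj F₀))).hom) ≫
          (resFactors ρ).inv.app ((rsCx φ').obj ((bcCx α).obj ((GW φ W).obj F₀))) ≫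
          (DRing.restrictD ρ).map (n0 h W c F₀ hcmp) := by simp only [Category.assoc]
      _ = Q.map (γres φ ρ W F₀) ≫
          (Q.map ((rsCx ρ).map (Θ h ((GW φ W).obj F₀) (rF φ W F₀))) ≫
            (resFactors ρ).inv.app ((rsCx φ').obj ((bcCx α).obj ((GW φ W).obj F₀)))) ≫
          (DRing.restrictD ρ).map (n0 h W c F₀ hcmp) := by
          rw [h1]
          simp only [Category.assoc]
      _ = Q.map (γres φ ρ W F₀) ≫ (resFactors ρ).inv.app ((bcCx ρ).obj (F₀ ⊗ Vres φ W)) ≫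
          (DRing.restrictD ρ).map (Q.map (Θ h ((GW φ W).obj F₀) (rF φ W F₀)) ≫
            n0 h W c F₀ hcmp) := by
          rw [hD, Functor.map_comp]
          simp only [Category.assoc]
      _ = Q.map (γres φ ρ W F₀) ≫ ((resFactors ρ).inv.app ((bcCx ρ).obj (F₀ ⊗ Vres φ W)) ≫
          (DRing.restrictD ρ).map (Q.map ((bcCx ρ).map (sF φ W c F₀)))) ≫
          (DRing.restrictD ρ).map (inv ((lbcCmp ρ).app F₀)) := by
          rw [hN, Functor.map_comp]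
          simp only [Category.assoc]
      _ = (Q.map (γres φ ρ W F₀) ≫ Q.map ((rsCx ρ).map ((bcCx ρ).map (sF φ W c F₀)))) ≫
          (resFactors ρ).inv.app ((bcCx ρ).obj F₀) ≫
          (DRing.restrictD ρ).map (inv ((lbcCmp ρ).app F₀)) := by
          rw [← hE]
          simp only [Category.assoc]
      _ = _ := by
          rw [← h2, ← rlIso_inv]
          exact Category.assoc _ _ _
  rw [inv_cmp_sigma h W c F₀ hcmp, sigma_eq (φ := φ) W c (F1 ρ F₀)]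
  rw [Functor.map_comp (DRing.restrictD ρ), Functor.map_comp (DRing.restrictD φ)]
  calc ((DRing.restrictD φ).map (Q.map (ιcx h W F₀)) ≫
        (DRing.restrictD φ).map (rlIso α ((GW φ W).obj F₀)).inv) ≫
        (TrivBC.resComm h).hom.app ((DRing.LBaseChange α).obj (Q.obj ((GW φ W).obj F₀))) ≫
        (DRing.restrictD ρ).map ((DRing.restrictD φ').map ((lbcCmp α).app ((GW φ W).obj F₀)) ≫
          (resFactors φ').hom.app ((bcCx α).obj ((GW φ W).obj F₀))) ≫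
        (DRing.restrictD ρ).map (n0 h W c F₀ hcmp)
      = (DRing.restrictD φ).map (Q.map (ιcx h W F₀)) ≫
        ((DRing.restrictD φ).map (rlIso α ((GW φ W).obj F₀)).inv ≫
        (TrivBC.resComm h).hom.app ((DRing.LBaseChange α).obj (Q.obj ((GW φ W).obj F₀))) ≫
        (DRing.restrictD ρ).map ((DRing.restrictD φ').map ((lbcCmp α).app ((GW φ W).obj F₀)) ≫
          (resFactors φ').hom.app ((bcCx α).obj ((GW φ W).obj F₀)))) ≫
        (DRing.restrictD ρ).map (n0 h W c F₀ hcmp) := by simp only [Category.assoc]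
    _ = ((DRing.restrictD φ).map (Q.map (ιcx h W F₀)) ≫
        (resFactors φ).hom.app ((rsCx α).obj ((bcCx α).obj ((GW φ W).obj F₀)))) ≫
        Q.map (cxComm h ((bcCx α).obj ((GW φ W).obj F₀))).hom ≫
        (resFactors ρ).inv.app ((rsCx φ').obj ((bcCx α).obj ((GW φ W).obj F₀))) ≫
        (DRing.restrictD ρ).map (n0 h W c F₀ hcmp) := by
        rw [hA]
        simp only [Category.assoc]
    _ = (resFactors φ).hom.app ((GW φ W).obj (F1 ρ F₀)) ≫ inv (Q.map (rF φ W (F1 ρ F₀))) ≫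
        (Q.map (rF φ W (F1 ρ F₀)) ≫ Q.map ((rsCx φ).map (ιcx h W F₀)) ≫
        Q.map (cxComm h ((bcCx α).obj ((GW φ W).obj F₀))).hom ≫
        (resFactors ρ).inv.app ((rsCx φ').obj ((bcCx α).obj ((GW φ W).obj F₀))) ≫
        (DRing.restrictD ρ).map (n0 h W c F₀ hcmp)) := by
        rw [hB]
        simp only [Category.assoc, IsIso.inv_hom_id_assoc]
    _ = _ := by
        rw [hC]
        simp only [Category.assoc]

end Derived

end Groth.Agent.Lib.Helper5.TBC
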