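import Mathlib
import Groth.Prelude.Def_TrivBC
import Groth.Agent.Lib.Helper5.TBC.Core2

/-!
# Base change for trivial duality along a perfect ring map (helper5)
-/

set_option autoImplicit false
universe u
open CategoryTheory CategoryTheory.Limits DerivedCategory MonoidalCategory
attribute [local instance] HasDerivedCategory.standard

namespace Groth.Agent.Lib.Helper5.TBC
open Groth.Agent.Lib.Helper5.DTenLib Helper5.Gen Groth.Agent.Lib.Helper5.KProj DTen

section Main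

variable {R A R' A' : Type u} [CommRing R] [CommRing A] [CommRing R'] [CommRing A']
  {φ : R →+* A} {ρ : R →+* R'} {α : A →+* A'} {φ' : R' →+* A'} (h : α.comp φ = φ'.comp ρ)
  (W : DRing.Cx A) [W.IsKProjective]
  (c : (DRing.restrictD φ).obj (Q.obj W) ⟶ Q.obj (𝟙_ (DRing.Cx R)))
  (F₀ : DRing.Cx R) [F₀.IsKProjective]

instance quasiIso_γres : QuasiIso (γres φ ρ W F₀) := by
  haveI := Groth.Agent.Lib.Helper5.KFlat.quasiIso_whiskerRight
    (isKFlat_of_isKProjective (Vres φ W)) (q1 ρ F₀) inferInstance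
  dsimp only [γres]
  infer_instance

/-- the comparison `ιcx` is a quasi-isomorphism when `cmp` is an isomorphism -/
theorem quasiIso_ιcx
    (hcmp : IsIso (TrivBC.cmp (myAdj ρ) (myAdj α) h (Q.obj ((GW φ W).obj F₀)))) :
    QuasiIso (ιcx h W F₀) := by
  haveI := isIso_Q_Θ h W F₀ hcmp
  haveI hΘ : QuasiIso (Θ h ((GW φ W).obj F₀) (rF φ W F₀)) :=
    (DerivedCategory.isIso_Q_map_iff_quasiIso _ (Θ h ((GW φ W).obj F₀) (rF φ W F₀))).1 inferInstance
  haveI : QuasiIso ((rsCx ρ).map (Θ h ((GW φ W).obj F₀) (rF φ W F₀))) :=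
    (quasiIso_rsCx_map_iff ρ _).2 hΘ
  have e := sq1 h W F₀
  haveI : QuasiIso (rF φ W (F1 ρ F₀) ≫ (rsCx φ).map (ιcx h W F₀) ≫
      (cxComm h ((bcCx α).obj ((GW φ W).obj F₀))).hom) := by
    rw [e]
    infer_instance
  haveI : QuasiIso ((rsCx φ).map (ιcx h W F₀) ≫
      (cxComm h ((bcCx α).obj ((GW φ W).obj F₀))).hom) :=
    quasiIso_of_comp_left (rF φ W (F1 ρ F₀)) _
  haveI : QuasiIso ((rsCx φ).map (ιcx h W F₀)) :=
    quasiIso_of_comp_right _ (cxComm h ((bcCx α).obj ((GW φ W).obj F₀))).hom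
  exact (quasiIso_rsCx_map_iff φ _).1 inferInstance

variable {Rφ : Dual.D R ⥤ Dual.D A} (adj : DRing.restrictD φ ⊣ Rφ)

/-- **the core**: `fK` is an isomorphism at `Q F₀`, for `A` perfect over `R` -/
theorem isIso_fK_Q
    (hperf : DRing.IsPerfect R ((DRing.restrictD φ).obj (Dual.inD A A)))
    (hc : IsIso (adj.homEquiv _ _ c))
    (hcmpAll : ∀ X : Dual.D A, IsIso (TrivBC.cmp (myAdj ρ) (myAdj α) h X)) :
    IsIso (fK (myAdj ρ) (myAdj α) h adj (Q.obj F₀) (hcmpAll _)) := by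
  have hF1 : (F1 ρ F₀).IsKProjective := inferInstance
  haveI hτ₀ := isIso_tau φ adj hperf W c hc F₀ inferInstance
  haveI hτ₁ := isIso_tau φ adj hperf W c hc (F1 ρ F₀) hF1
  haveI := hcmpAll (Q.obj ((GW φ W).obj F₀))
  haveI := hcmpAll (Rφ.obj (Q.obj F₀))
  haveI := quasiIso_ιcx h W F₀ (hcmpAll _)
  haveI : IsIso (Q.map (ιcx h W F₀)) := by
    rw [DerivedCategory.isIso_Q_map_iff_quasiIso]
    infer_instance
  haveI : IsIso (Q.map (q1 ρ F₀)) := by
    rw [DerivedCategory.isIso_Q_map_iff_quasiIso]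
    infer_instance
  let w := tau φ W c adj F₀ (isKFlat_of_isKProjective F₀)
  let ι' : Q.obj ((GW φ W).obj (F1 ρ F₀)) ⟶
      (DRing.restrictD α).obj ((DRing.LBaseChange α).obj (Rφ.obj (Q.obj F₀))) :=
    (Q.map (ιcx h W F₀) ≫ (rlIso α ((GW φ W).obj F₀)).inv) ≫
      (DRing.restrictD α).map ((DRing.LBaseChange α).map w)
  let t : Q.obj (F1 ρ F₀) ⟶ (DRing.restrictD ρ).obj ((DRing.LBaseChange ρ).obj (Q.obj F₀)) :=
    Q.map (q1 ρ F₀) ≫ (rlIso ρ F₀).inv
  haveI : IsIso ι' := by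
    dsimp only [ι', w]
    infer_instance
  haveI : IsIso t := by
    dsimp only [t]
    infer_instance
  -- the key identity
  have e1 := (TrivBC.resComm h).hom.naturality ((DRing.LBaseChange α).map w)
  have e2 := (cmpNat (myAdj ρ) (myAdj α) h).naturality w
  simp only [cmpNat_app, Functor.comp_map] at e1 e2
  have e3 : (DRing.restrictD φ).map w ≫ adj.counit.app (Q.obj F₀) =
      sigma φ W c F₀ (isKFlat_of_isKProjective F₀) := by
    dsimp only [w, tau]
    have e0 := adj.homEquiv_counit (X := Q.obj ((GW φ W).obj F₀)) (Y := Q.obj F₀)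
      (g := adj.homEquiv _ _ (sigma φ W c F₀ (isKFlat_of_isKProjective F₀)))
    rw [Equiv.symm_apply_apply] at e0
    exact e0.symm
  have e4 : (DRing.restrictD φ').map ((DRing.LBaseChange α).map w) ≫
      inv (TrivBC.cmp (myAdj ρ) (myAdj α) h (Rφ.obj (Q.obj F₀))) =
      inv (TrivBC.cmp (myAdj ρ) (myAdj α) h (Q.obj ((GW φ W).obj F₀))) ≫
        (DRing.LBaseChange ρ).map ((DRing.restrictD φ).map w) := by
    rw [IsIso.eq_inv_comp, ← Category.assoc, ← e2, Category.assoc, IsIso.hom_inv_id,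
      Category.comp_id]
  have key : (DRing.restrictD φ).map ι' ≫ mK (myAdj ρ) (myAdj α) h adj (Q.obj F₀) (hcmpAll _) =
      sigma φ W c (F1 ρ F₀) (isKFlat_of_isKProjective _) ≫ t := by
    have hs := star h W c F₀ (hcmpAll _)
    dsimp only [ι', t, mK, epsK]
    rw [← hs, Functor.map_comp (DRing.restrictD φ)]
    simp only [Category.assoc]
    congr 1
    rw [← Category.assoc, e1, Category.assoc, ← Functor.map_comp, ← Category.assoc, e4,
      Category.assoc, ← Functor.map_comp, e3]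
  have key2 : ι' ≫ fK (myAdj ρ) (myAdj α) h adj (Q.obj F₀) (hcmpAll _) =
      tau φ W c adj (F1 ρ F₀) (isKFlat_of_isKProjective _) ≫ Rφ.map t := by
    dsimp only [fK, tau]
    rw [← adj.homEquiv_naturality_left, ← adj.homEquiv_naturality_right, key]
  have key3 : fK (myAdj ρ) (myAdj α) h adj (Q.obj F₀) (hcmpAll _) =
      inv ι' ≫ tau φ W c adj (F1 ρ F₀) (isKFlat_of_isKProjective _) ≫ Rφ.map t := by
    rw [← key2, IsIso.inv_hom_id_assoc]
  rw [key3]
  infer_instance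

end Main

section Final

variable {R A R' A' : Type u} [CommRing R] [CommRing A] [CommRing R'] [CommRing A']
  {φ : R →+* A} {ρ : R →+* R'} {α : A →+* A'} {φ' : R' →+* A'} (h : α.comp φ = φ'.comp ρ)

/-- **base change for trivial duality along a perfect ring map**: if `A` is perfect over `R` and
the base change comparison `cmp` is an isomorphism on all of `D(A)`, then the base change map
`R Hom(A, K) ⊗^L_A A' ⟶ R Hom(A', K ⊗^L_R R')` is an isomorphism for every `K`, for any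
adjunction data -/
theorem isIso_bcMap_of_perfect
    (hperf : DRing.IsPerfect R ((DRing.restrictD φ).obj (Dual.inD A A)))
    (hcmpAll : ∀ X : Dual.D A, IsIso (TrivBC.cmp (myAdj ρ) (myAdj α) h X))
    (adjρ : DRing.LBaseChange ρ ⊣ DRing.restrictD ρ)
    (adjα : DRing.LBaseChange α ⊣ DRing.restrictD α)
    {Rφ : Dual.D R ⥤ Dual.D A} (adj : DRing.restrictD φ ⊣ Rφ)
    {Rφ' : Dual.D R' ⥤ Dual.D A'} (adj' : DRing.restrictD φ' ⊣ Rφ') (K : Dual.D R)
    (hc : IsIso (TrivBC.cmp adjρ adjα h (Rφ.obj K))) :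
    IsIso (TrivBC.bcMap adjρ adjα h adj adj' K hc) := by
  obtain ⟨F₀, hF₀, ⟨e⟩⟩ := exists_kproj_rep K
  obtain ⟨W, hW, ⟨eW⟩⟩ := exists_kproj_rep (Rφ.obj (Q.obj (𝟙_ (DRing.Cx R))))
  haveI := hF₀
  haveI := hW
  let c : (DRing.restrictD φ).obj (Q.obj W) ⟶ Q.obj (𝟙_ (DRing.Cx R)) :=
    (adj.homEquiv _ _).symm eW.hom
  have hc' : IsIso (adj.homEquiv _ _ c) := by
    dsimp only [c]
    rw [Equiv.apply_symm_apply]
    infer_instance
  refine isIso_bcMap_of_adj (myAdj ρ) (myAdj α) h adj adj' adjρ adjα K (hcmpAll _) hc ?_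
  refine isIso_bcMap_of_iso (myAdj ρ) (myAdj α) h adj adj' e.symm (hcmpAll _) (hcmpAll _) ?_
  exact isIso_bcMap_of_isIso_fK (myAdj ρ) (myAdj α) h adj adj' (Q.obj F₀) (hcmpAll _)
    (isIso_fK_Q h W c F₀ adj hperf hc' hcmpAll)
    (fun j => ⟨Q.obj (Un (R := A) j), lbcUnIso α j, hcmpAll _⟩)

end Final

end Groth.Agent.Lib.Helper5.TBC
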