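import Mathlib
import Groth.Prelude.Def_TrivBC
import Groth.Agent.Lib.Helper5.TBC.GamMod

/-!
# The base change comparison `cmp` is an isomorphism: a criterion without Tor (helper5)
-/

set_option autoImplicit false
universe u
open CategoryTheory CategoryTheory.Limits DerivedCategory MonoidalCategory
attribute [local instance] HasDerivedCategory.standard

namespace Groth.Agent.Lib.Helper5.TBC
open Groth.Agent.Lib.Helper5.DTenLib Helper5.Gen Groth.Agent.Lib.Helper5.KProj
  Groth.Agent.Helper3.AdjHtpyPlus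

section

variable {R A R' A' : Type u} [CommRing R] [CommRing A] [CommRing R'] [CommRing A']
  {φ : R →+* A} {ρ : R →+* R'} {α : A →+* A'} {φ' : R' →+* A'} (h : α.comp φ = φ'.comp ρ)

lemma κcx_naturality {P P' : DRing.Cx A} (f : P ⟶ P') :
    (bcCx ρ).map ((rsCx φ).map f) ≫ κcx h P' =
      κcx h P ≫ (rsCx φ').map ((bcCx α).map f) := by
  ext i : 1
  rw [HomologicalComplex.comp_f, HomologicalComplex.comp_f, κcx_f, κcx_f]
  exact κmod_naturality h (f.f i)

/-- `cmp` is an isomorphism at the shifts of the ring as soon as extension of scalars along `ρ`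
preserves the projective resolutions of the shifts of `A|_R` -/
theorem isIso_cmp_unit_shift_of_qi (hc : IsCocart h) (n : ℤ)
    (hq : ∀ (G : DRing.Cx R) (r : G ⟶ (rsCx φ).obj (Un (R := A) n)), QuasiIso r →
      (∀ i, Projective (G.X i)) → DRing.VanishesAbove G (-n) → QuasiIso ((bcCx ρ).map r)) :
    IsIso (TrivBC.cmp (myAdj ρ) (myAdj α) h (Q.obj (Un (R := A) n))) := by
  have hb : DRing.VanishesAbove ((rsCx φ).obj (Un (R := A) n)) (-n) := by
    intro i hi
    exact Functor.map_isZero (ModuleCat.restrictScalars.{u} φ)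
      (HomologicalComplex.isZero_single_obj_X (ComplexShape.up ℤ) 0 (ModuleCat.of A A) (i + n)
        (by omega))
  obtain ⟨G, r, hr, hproj, hGb, hG⟩ := Groth.Agent.Helper5.TorAmp.exists_resolution _ (-n) hb
  haveI := hq G r hr hproj hGb
  haveI := isIso_κcx h hc (Un (R := A) n)
  have hΘ : QuasiIso (Θ h (Un (R := A) n) r) := by
    rw [Θ_eq]
    infer_instance
  exact isIso_cmp_Q_of_quasiIso h (Un (R := A) n) r hr hΘ

/-- `cmp` is an isomorphism on all of `D(A)` under the same hypothesis -/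
theorem isIso_cmp_myAdj_of_qi (hc : IsCocart h)
    (hq : ∀ (n : ℤ) (G : DRing.Cx R) (r : G ⟶ (rsCx φ).obj (Un (R := A) n)), QuasiIso r →
      (∀ i, Projective (G.X i)) → DRing.VanishesAbove G (-n) → QuasiIso ((bcCx ρ).map r))
    (K : Dual.D A) :
    IsIso (TrivBC.cmp (myAdj ρ) (myAdj α) h K) := by
  have h₁ : CoyExact (DRing.restrictD φ ⋙ DRing.LBaseChange ρ) :=
    CoyExact.comp_triangulated (DRing.restrictD φ) (coyExact_of_leftAdjoint (myAdj ρ))
  have h₂ : CoyExact (DRing.LBaseChange α ⋙ DRing.restrictD φ') :=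
    coyExact_leftAdjoint_comp (myAdj α) (DRing.restrictD φ')
  have c₁ : PresCoprod.{u} (DRing.restrictD φ ⋙ DRing.LBaseChange ρ) :=
    (presCoprod_of_adjunction (Helper5.Shriek.rAdj φ)).comp (presCoprod_of_adjunction (myAdj ρ))
  have c₂ : PresCoprod.{u} (DRing.LBaseChange α ⋙ DRing.restrictD φ') :=
    (presCoprod_of_adjunction (myAdj α)).comp (presCoprod_of_adjunction (Helper5.Shriek.rAdj φ'))
  have c₁' : PresCoprod.{0} (DRing.restrictD φ ⋙ DRing.LBaseChange ρ) :=
    (presCoprod_of_adjunction (Helper5.Shriek.rAdj φ)).comp (presCoprod_of_adjunction (myAdj ρ))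
  have c₂' : PresCoprod.{0} (DRing.LBaseChange α ⋙ DRing.restrictD φ') :=
    (presCoprod_of_adjunction (myAdj α)).comp (presCoprod_of_adjunction (Helper5.Shriek.rAdj φ'))
  have h0 : isoLocus (cmpNat (myAdj ρ) (myAdj α) h) (Dual.inD A A) := fun n => by
    have e : Q.obj (Un (R := A) n) ≅ (Dual.inD A A)⟦n⟧ :=
      (Q.commShiftIso n).app (𝟙_ (DRing.Cx A))
    exact isIso_app_of_iso (cmpNat (myAdj ρ) (myAdj α) h) e
      (isIso_cmp_unit_shift_of_qi h hc n (hq n))
  exact isIso_app_of_unit (cmpNat (myAdj ρ) (myAdj α) h) h₁ h₂ c₁ c₂ c₁' c₂' h0 K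

end

end Groth.Agent.Lib.Helper5.TBC
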