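import Mathlib
import Groth.Prelude.Def_TrivBC
import Groth.Agent.Lib.Helper5.TBC.CmpQi

/-!
# Extension of scalars preserves resolutions over a flat base, via the transposed square (helper5)
-/

set_option autoImplicit false
universe u
open CategoryTheory CategoryTheory.Limits DerivedCategory MonoidalCategory
attribute [local instance] HasDerivedCategory.standard

namespace Groth.Agent.Lib.Helper5.TBC
open Groth.Agent.Lib.Helper5.DTenLib Helper5.Gen Groth.Agent.Lib.Helper5.KProj
  Groth.Agent.Helper1.TorL

section Transposed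

variable {R P R' P' : Type u} [CommRing R] [CommRing P] [CommRing R'] [CommRing P']
  {β : R →+* P} {ρ₀ : R →+* R'} {ρ : P →+* P'} {β' : R' →+* P'} (h' : ρ.comp β = β'.comp ρ₀)

/-- in a cocartesian square, extension of scalars along `P → P'` preserves a quasi-isomorphism of
bounded above complexes of `P`-modules whose terms are `R'`-acyclic over `R` -/
theorem quasiIso_bcCx_of_cocart (hc' : IsCocart h') {G E : DRing.Cx P} (r : G ⟶ E)
    (hr : QuasiIso r)
    (hG : ∀ i, TA (SR ρ₀) ((ModuleCat.restrictScalars.{u} β).obj (G.X i)))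
    (hE : ∀ i, TA (SR ρ₀) ((ModuleCat.restrictScalars.{u} β).obj (E.X i)))
    (b : ℤ) (hGb : ∀ i, b < i → IsZero (G.X i)) (hEb : ∀ i, b < i → IsZero (E.X i)) :
    QuasiIso ((bcCx ρ).map r) := by
  have h1 : QuasiIso ((rsCx β).map r) := (quasiIso_rsCx_map_iff β r).2 hr
  haveI h2 := quasiIso_bcCx_of_ta ρ₀ ((rsCx β).map r) h1 hG hE b
    (fun i hi => Functor.map_isZero (ModuleCat.restrictScalars.{u} β) (hGb i hi))
    (fun i hi => Functor.map_isZero (ModuleCat.restrictScalars.{u} β) (hEb i hi))
  have e := κcx_naturality h' r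
  haveI := isIso_κcx h' hc' G
  haveI := isIso_κcx h' hc' E
  have h3 : QuasiIso ((rsCx β').map ((bcCx ρ).map r)) := by
    have e' : (rsCx β').map ((bcCx ρ).map r) =
        inv (κcx h' G) ≫ (bcCx ρ₀).map ((rsCx β).map r) ≫ κcx h' E := by
      rw [e, IsIso.inv_hom_id_assoc]
    rw [e']
    infer_instance
  exact (quasiIso_rsCx_map_iff β' _).1 h3

end Transposed

section Flat

variable {R P A R' P' : Type u} [CommRing R] [CommRing P] [CommRing A] [CommRing R']
  [CommRing P'] {β : R →+* P} {ρ₀ : R →+* R'} {ρ : P →+* P'} {β' : R' →+* P'} (φ : P →+* A)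
  (h' : ρ.comp β = β'.comp ρ₀)

/-- the hypothesis of `isIso_cmp_myAdj_of_qi` when `P` and `A` are flat over `R` -/
theorem quasiIso_bcCx_resolution_of_flat (hc' : IsCocart h')
    (hP : ∀ M : ModuleCat.{u} P, Module.Flat P M →
      Module.Flat R ((ModuleCat.restrictScalars.{u} β).obj M))
    (hA : Module.Flat R ((ModuleCat.restrictScalars.{u} β).obj
      ((ModuleCat.restrictScalars.{u} φ).obj (ModuleCat.of A A))))
    (n : ℤ) (G : DRing.Cx P) (r : G ⟶ (rsCx φ).obj (Un (R := A) n)) (hr : QuasiIso r)
    (hproj : ∀ i, Projective (G.X i)) (hGb : DRing.VanishesAbove G (-n)) :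
    QuasiIso ((bcCx ρ).map r) := by
  have hb : DRing.VanishesAbove ((rsCx φ).obj (Un (R := A) n)) (-n) := by
    intro i hi
    exact Functor.map_isZero (ModuleCat.restrictScalars.{u} φ)
      (HomologicalComplex.isZero_single_obj_X (ComplexShape.up ℤ) 0 (ModuleCat.of A A) (i + n)
        (by omega))
  refine quasiIso_bcCx_of_cocart h' hc' r hr (fun i => ?_) (fun i => ?_) (-n) hGb hb
  · haveI := hproj i
    haveI : Module.Flat P (G.X i) := flat_of_projective (G.X i)
    haveI := hP (G.X i) inferInstance
    exact TA.of_flat _ _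
  · by_cases hi : i + n = 0
    · haveI := hA
      refine TA.of_iso _ ?_ (TA.of_flat (SR ρ₀) ((ModuleCat.restrictScalars.{u} β).obj
        ((ModuleCat.restrictScalars.{u} φ).obj (ModuleCat.of A A))))
      exact (ModuleCat.restrictScalars.{u} β).mapIso ((ModuleCat.restrictScalars.{u} φ).mapIso
        (HomologicalComplex.singleObjXIsoOfEq (ComplexShape.up ℤ) 0 (ModuleCat.of A A) (i + n)
          hi).symm)
    · apply TA.of_isZero
      exact Functor.map_isZero (ModuleCat.restrictScalars.{u} β)
        (Functor.map_isZero (ModuleCat.restrictScalars.{u} φ)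
          (HomologicalComplex.isZero_single_obj_X (ComplexShape.up ℤ) 0 (ModuleCat.of A A)
            (i + n) hi))

end Flat

end Groth.Agent.Lib.Helper5.TBC
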