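import Mathlib
import Groth.Prelude.Def_DDual2
import Groth.Prelude.Def_DualSh
import Groth.Agent.Lib.Helper5.Shriek.FlatBCS
import Groth.Agent.Lib.Helper5.Shriek.Indep
import Groth.Agent.Lib.Helper5.TBC.Core3
import Groth.Agent.Lib.Helper5.TBC.PolySq
import Groth.Agent.Lib.Helper5.Gen.PerfFlat

/-!
# Base change for upper shriek along a flat map of finite type (helper5)
-/

set_option autoImplicit false
universe u
open CategoryTheory Limits Triangulated TensorProduct

attribute [local instance] HasDerivedCategory.standard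
attribute [local instance] MvPolynomial.algebraMvPolynomial
attribute [local instance] Algebra.TensorProduct.rightAlgebra

namespace Helper5.Shriek

open DerivedCategory Groth.Agent.Lib.Helper5.DTenLib Groth.Agent.Lib.Helper5.TBC

/-- derived base change commutes with shifts -/
noncomputable def lbcShiftIso' {A B : Type u} [CommRing A] [CommRing B] (α : A →+* B)
    (X : Dual.D A) (n : ℤ) :
    (DRing.LBaseChange α).obj (X⟦n⟧) ≅ ((DRing.LBaseChange α).obj X)⟦n⟧ :=
  letI := (myAdj α).leftAdjointCommShift ℤ
  ((DRing.LBaseChange α).commShiftIso n).app X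

theorem flat_restrictScalars {R P : Type u} [CommRing R] [CommRing P] [Algebra R P]
    [Module.Flat R P] (M : ModuleCat.{u} P) (hM : Module.Flat P M) :
    Module.Flat R ((ModuleCat.restrictScalars.{u} (algebraMap R P)).obj M) := by
  letI : Module R M := Module.compHom M (algebraMap R P)
  haveI : IsScalarTower R P M := IsScalarTower.of_algebraMap_smul (fun _ _ => rfl)
  exact Module.Flat.trans R P M

theorem flat_restrictScalars₂ {R P A : Type u} [CommRing R] [CommRing P] [CommRing A]
    [Algebra R P] [Algebra R A] [Algebra P A] [IsScalarTower R P A] [Module.Flat R A] :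
    Module.Flat R ((ModuleCat.restrictScalars.{u} (algebraMap R P)).obj
      ((ModuleCat.restrictScalars.{u} (algebraMap P A)).obj (ModuleCat.of A A))) := by
  let e : A ≃ₗ[R] ((ModuleCat.restrictScalars.{u} (algebraMap R P)).obj
      ((ModuleCat.restrictScalars.{u} (algebraMap P A)).obj (ModuleCat.of A A))) :=
    { toFun := fun a => a
      invFun := fun a => a
      left_inv := fun _ => rfl
      right_inv := fun _ => rfl
      map_add' := fun _ _ => rfl
      map_smul' := fun r a => by
        show r • a = algebraMap P A (algebraMap R P r) * a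
        rw [← IsScalarTower.algebraMap_apply, Algebra.smul_def] }
  exact Module.Flat.of_linearEquiv e.symm

/-- **base change for upper shriek along a flat map of finite type** -/
theorem shriek_flat_ft_bc (R R' A : Type u) [CommRing R] [CommRing R'] [CommRing A]
    [IsNoetherianRing R] [Algebra R R'] [Algebra R A] [Module.Flat R A] (n : ℕ)
    (ψ : MvPolynomial (Fin n) R →ₐ[R] A) (hψ : Function.Surjective ψ)
    (Rψ : Dual.D (MvPolynomial (Fin n) R) ⥤ Dual.D A) (adj : DRing.restrictD ψ.toRingHom ⊣ Rψ)
    (m : ℕ) (ψ' : MvPolynomial (Fin m) R' →ₐ[R'] (R' ⊗[R] A)) (hψ' : Function.Surjective ψ')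
    (Rψ' : Dual.D (MvPolynomial (Fin m) R') ⥤ Dual.D (R' ⊗[R] A))
    (adj' : DRing.restrictD ψ'.toRingHom ⊣ Rψ') (K : Dual.D R) :
    Nonempty ((DRing.LBaseChange
        (Algebra.TensorProduct.includeRight : A →ₐ[R] R' ⊗[R] A).toRingHom).obj
          (Dual2.shriekVia n Rψ K) ≅
      Dual2.shriekVia m Rψ' ((DRing.LBaseChange (algebraMap R R')).obj K)) := by
  let P := MvPolynomial (Fin n) R
  let P' := MvPolynomial (Fin n) R'
  let A' := R' ⊗[R] A
  letI : Algebra P A := ψ.toRingHom.toAlgebra
  let ψ₁ : P' →ₐ[R'] A' := MvPolynomial.aeval (fun i => (1 : R') ⊗ₜ[R] ψ (MvPolynomial.X i))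
  letI : Algebra P' A' := ψ₁.toRingHom.toAlgebra
  letI : Algebra P A' := ((algebraMap A A').comp (algebraMap P A)).toAlgebra
  haveI : IsScalarTower P A A' := IsScalarTower.of_algebraMap_eq (fun _ => rfl)
  haveI : IsScalarTower R P A := IsScalarTower.of_algebraMap_eq (fun r => (ψ.commutes r).symm)
  haveI : IsScalarTower P P' A' := by
    refine IsScalarTower.of_algebraMap_eq' ?_
    apply MvPolynomial.ringHom_ext
    · intro r
      show (1 : R') ⊗ₜ[R] ψ (MvPolynomial.C r) = ψ₁ (MvPolynomial.map (algebraMap R R') (MvPolynomial.C r))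
      rw [MvPolynomial.map_C, MvPolynomial.aeval_C, Algebra.TensorProduct.algebraMap_apply,
        ← MvPolynomial.algebraMap_eq, AlgHom.commutes, Algebra.algebraMap_eq_smul_one,
        Algebra.algebraMap_eq_smul_one r]
      simp [TensorProduct.tmul_smul, TensorProduct.smul_tmul']
    · intro i
      show (1 : R') ⊗ₜ[R] ψ (MvPolynomial.X i) = ψ₁ (MvPolynomial.map (algebraMap R R') (MvPolynomial.X i))
      rw [MvPolynomial.map_X, MvPolynomial.aeval_X]
  haveI : IsScalarTower R' P' A' := IsScalarTower.of_algebraMap_eq (fun r => (ψ₁.commutes r).symm)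
  haveI : IsScalarTower R P' A' := by
    refine IsScalarTower.of_algebraMap_eq (fun r => ?_)
    rw [IsScalarTower.algebraMap_apply R R' A', IsScalarTower.algebraMap_apply R R' P',
      ← IsScalarTower.algebraMap_apply R' P' A']
  haveI : Algebra.IsPushout P A P' A' :=
    (Algebra.IsPushout.comp_iff R P R' P').1 inferInstance
  have hψs : Function.Surjective (algebraMap P A) := hψ
  have hψ₁ : Function.Surjective ψ₁ := by
    intro x
    induction x using TensorProduct.induction_on with
    | zero => exact ⟨0, map_zero _⟩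
    | tmul r' a =>
      obtain ⟨p, rfl⟩ := hψ a
      refine ⟨MvPolynomial.C r' * MvPolynomial.map (algebraMap R R') p, ?_⟩
      have h1 : ψ₁ (MvPolynomial.map (algebraMap R R') p) = (1 : R') ⊗ₜ[R] ψ p :=
        (IsScalarTower.algebraMap_apply P P' A' p).symm
      have h2 : ψ₁ (MvPolynomial.C r') = r' ⊗ₜ[R] (1 : A) := by
        rw [← MvPolynomial.algebraMap_eq, AlgHom.commutes, Algebra.TensorProduct.algebraMap_apply,
          Algebra.algebraMap_self_apply]
      rw [map_mul, h1, h2, Algebra.TensorProduct.tmul_mul_tmul, mul_one, one_mul]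
    | add x y hx hy =>
      obtain ⟨a, ha⟩ := hx
      obtain ⟨b, hb⟩ := hy
      exact ⟨a + b, by rw [map_add, ha, hb]⟩
  have adjs : DRing.restrictD (algebraMap P A) ⊣ Rψ := adj
  let N : Dual.D P := (DRing.LBaseChange (algebraMap R P)).obj K
  -- the two squares
  have hsq : (algebraMap A A').comp (algebraMap P A) =
      (algebraMap P' A').comp (algebraMap P P') := by
    refine RingHom.ext fun p => ?_
    show algebraMap A A' (algebraMap P A p) = algebraMap P' A' (algebraMap P P' p)
    rw [← IsScalarTower.algebraMap_apply P A A', ← IsScalarTower.algebraMap_apply P P' A']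
  have hcomp : (algebraMap P P').comp (algebraMap R P) =
      (algebraMap R' P').comp (algebraMap R R') := by
    refine RingHom.ext fun r => ?_
    show algebraMap P P' (algebraMap R P r) = algebraMap R' P' (algebraMap R R' r)
    rw [← IsScalarTower.algebraMap_apply R P P', ← IsScalarTower.algebraMap_apply R R' P']
  have hperf : DRing.IsPerfect P ((DRing.restrictD (algebraMap P A)).obj (Dual.inD A A)) :=
    Helper5.Gen.perfect_of_flat_presentation R A n ψ hψ
  have hcmpAll : ∀ X : Dual.D A, IsIso (TrivBC.cmp (myAdj (algebraMap P P'))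
      (myAdj (algebraMap A A')) hsq X) := fun X =>
    isIso_cmp_myAdj_of_qi hsq (isCocart_of_isPushout P A P' A' hsq)
      (fun k G r hr hproj hGb =>
        quasiIso_bcCx_resolution_of_flat (algebraMap P A) hcomp
          (isCocart_of_isPushout R P R' P' hcomp)
          (fun M hM => flat_restrictScalars M hM) flat_restrictScalars₂ k G r hr hproj hGb) X
  haveI := isIso_bcMap_of_perfect hsq hperf hcmpAll (myAdj (algebraMap P P'))
    (myAdj (algebraMap A A')) adjs (rAdj (algebraMap P' A')) N (hcmpAll _)
  let i1 : (DRing.LBaseChange (algebraMap A A')).obj (Rψ.obj N) ≅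
      (RCoext (algebraMap P' A')).obj ((DRing.LBaseChange (algebraMap P P')).obj N) :=
    asIso (TrivBC.bcMap (myAdj (algebraMap P P')) (myAdj (algebraMap A A')) hsq adjs
      (rAdj (algebraMap P' A')) N (hcmpAll _))
  let K' : Dual.D R' := (DRing.LBaseChange (algebraMap R R')).obj K
  let eN : (DRing.LBaseChange (algebraMap P P')).obj N ≅
      (DRing.LBaseChange (algebraMap R' P')).obj K' :=
    (lbcCompIso (algebraMap R P) (algebraMap P P')).symm.app K ≪≫ (lbcEqIso hcomp).app K ≪≫
      (lbcCompIso (algebraMap R R') (algebraMap R' P')).app K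
  let l1 : (DRing.LBaseChange (algebraMap A A')).obj (Dual2.shriekVia n Rψ K) ≅
      Dual2.shriekVia n (RCoext ψ₁.toRingHom) K' :=
    lbcShiftIso' (algebraMap A A') (Rψ.obj N) n ≪≫ (shiftFunctor (Dual.D A') (n : ℤ)).mapIso
      (i1 ≪≫ (RCoext (algebraMap P' A')).mapIso eN)
  obtain ⟨l2⟩ := shriek_indep R' A' n ψ₁ hψ₁ (RCoext ψ₁.toRingHom) (rAdj ψ₁.toRingHom) m ψ' hψ'
    Rψ' adj' K'
  exact ⟨l1 ≪≫ l2⟩

end Helper5.Shriek
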