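import Mathlib
import Groth.Prelude.Def_DTen5
import Groth.Agent.Lib.Helper5.Gen.ProjCx
import Groth.Agent.Lib.Helper5.ExactPair.Assoc
import Groth.Agent.Lib.Helper5.TBC.Cmp

/-!
# Chain level actions of the restricted unit complex (helper5)

For a ring map `φ : R → A` and a complex `M` of `A`-modules, the complex `A[0]|_R` acts on `M|_R`
on both sides.  We record the component formulas and the chain level projection isomorphisms
`P ⊗ A[0]|_R ≅ (P ⊗_R A)|_R` and `A[0]|_R ⊗ P ≅ (P ⊗_R A)|_R`.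
-/

set_option autoImplicit false
set_option backward.isDefEq.respectTransparency false
universe u
open CategoryTheory CategoryTheory.Limits MonoidalCategory

namespace Groth.Agent.Lib.Helper5.TBC
open DTen Helper5.Gen HomologicalComplex Groth.Agent.Lib.Helper5.KProj
  Groth.Agent.Lib.Helper5.ExactPair

section General

variable {R : Type u} [CommRing R]

@[reassoc]
lemma ι_whiskerRight_f {K K' : DRing.Cx R} (f : K ⟶ K') (L : DRing.Cx R) (p q n : ℤ)
    (h : p + q = n) :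
    ιTensorObj K L p q n h ≫ (f ▷ L).f n = (f.f p ▷ L.X q) ≫ ιTensorObj K' L p q n h := by
  have h1 := ι_mapBifunctorMap f (𝟙 L) (curriedTensor (ModuleCat.{u} R)) (ComplexShape.up ℤ) p q n h
  rw [HomologicalComplex.id_f, CategoryTheory.Functor.map_id, Category.id_comp] at h1
  exact h1

@[reassoc]
lemma ι_whiskerLeft_f (K : DRing.Cx R) {L L' : DRing.Cx R} (g : L ⟶ L') (p q n : ℤ)
    (h : p + q = n) :
    ιTensorObj K L p q n h ≫ (K ◁ g).f n = (K.X p ◁ g.f q) ≫ ιTensorObj K L' p q n h := by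
  have h1 := ι_mapBifunctorMap (𝟙 K) g (curriedTensor (ModuleCat.{u} R)) (ComplexShape.up ℤ) p q n h
  rw [HomologicalComplex.id_f, CategoryTheory.Functor.map_id] at h1
  erw [Category.id_comp] at h1
  exact h1

lemma isZero_tensor_right (X : ModuleCat.{u} R) {Y : ModuleCat.{u} R} (hY : IsZero Y) :
    IsZero (X ⊗ Y) :=
  Functor.map_isZero (tensorLeft X) hY

lemma isZero_tensor_left {X : ModuleCat.{u} R} (hX : IsZero X) (Y : ModuleCat.{u} R) :
    IsZero (X ⊗ Y) :=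
  Functor.map_isZero (tensorRight Y) hX

/-- maps out of `K ⊗ L` with `L` concentrated in degree `0` -/
lemma hom_ext_conc_right {K L : DRing.Cx R} (hL : ∀ s : ℤ, s ≠ 0 → IsZero (L.X s)) {n : ℤ}
    {Z : ModuleCat.{u} R} (f g : (K ⊗ L).X n ⟶ Z)
    (h : ιTensorObj K L n 0 n (add_zero n) ≫ f = ιTensorObj K L n 0 n (add_zero n) ≫ g) :
    f = g := by
  refine HomologicalComplex.mapBifunctor.hom_ext (fun p q hpq => ?_)
  by_cases hq : q = 0
  · subst hq
    obtain rfl : p = n := by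
      change p + 0 = n at hpq
      omega
    exact h
  · exact (isZero_tensor_right (K.X p) (hL q hq)).eq_of_src _ _

/-- maps out of `K ⊗ L` with `K` concentrated in degree `0` -/
lemma hom_ext_conc_left {K L : DRing.Cx R} (hK : ∀ s : ℤ, s ≠ 0 → IsZero (K.X s)) {n : ℤ}
    {Z : ModuleCat.{u} R} (f g : (K ⊗ L).X n ⟶ Z)
    (h : ιTensorObj K L 0 n n (zero_add n) ≫ f = ιTensorObj K L 0 n n (zero_add n) ≫ g) :
    f = g := by
  refine HomologicalComplex.mapBifunctor.hom_ext (fun p q hpq => ?_)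
  by_cases hp : p = 0
  · subst hp
    obtain rfl : q = n := by
      change 0 + q = n at hpq
      omega
    exact h
  · exact (isZero_tensor_left (hK p hp) (L.X q)).eq_of_src _ _

/-- maps out of a triple tensor product -/
lemma hom_ext₃ (K₁ K₂ K₃ : DRing.Cx R) {j : ℤ} {Z : ModuleCat.{u} R}
    (f g : ((K₁ ⊗ K₂) ⊗ K₃).X j ⟶ Z)
    (h : ∀ (i₁ i₂ i₃ i₁₂ : ℤ) (h₁₂ : i₁ + i₂ = i₁₂) (h' : i₁₂ + i₃ = j),
      (ιTensorObj K₁ K₂ i₁ i₂ i₁₂ h₁₂ ▷ K₃.X i₃) ≫ ιTensorObj (K₁ ⊗ K₂) K₃ i₁₂ i₃ j h' ≫ f =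
        (ιTensorObj K₁ K₂ i₁ i₂ i₁₂ h₁₂ ▷ K₃.X i₃) ≫ ιTensorObj (K₁ ⊗ K₂) K₃ i₁₂ i₃ j h' ≫ g) :
    f = g := by
  refine GradedObject.Monoidal.tensorObj₃'_ext (X₁ := K₁.X) (X₂ := K₂.X) (X₃ := K₃.X) f g
    (fun i₁ i₂ i₃ hi => ?_)
  rw [GradedObject.Monoidal.ιTensorObj₃'_eq K₁.X K₂.X K₃.X i₁ i₂ i₃ j hi (i₁ + i₂) rfl,
    Category.assoc, Category.assoc]
  exact h i₁ i₂ i₃ (i₁ + i₂) rfl hi

lemma ι_rightUnitor_hom (K : DRing.Cx R) (n : ℤ) :
    ιTensorObj K (T R) n 0 n (add_zero n) ≫ (ρ_ K).hom.f n =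
      (K.X n ◁ (uIso R).hom) ≫ (ρ_ (K.X n)).hom := by
  have h := rightUnitor_inv_f K n
  have h2 : (ρ_ K).inv.f n ≫ (ρ_ K).hom.f n = 𝟙 _ := by
    rw [← HomologicalComplex.comp_f, Iso.inv_hom_id, HomologicalComplex.id_f]
  rw [h, Category.assoc, Category.assoc] at h2
  rw [← cancel_epi ((ρ_ (K.X n)).inv ≫ (K.X n ◁ (uIso R).inv)), Category.assoc, h2]
  simp

lemma ι_leftUnitor_hom (K : DRing.Cx R) (n : ℤ) :
    ιTensorObj (T R) K 0 n n (zero_add n) ≫ (λ_ K).hom.f n =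
      ((uIso R).hom ▷ K.X n) ≫ (λ_ (K.X n)).hom := by
  have h := leftUnitor_inv_f K n
  have h2 : (λ_ K).inv.f n ≫ (λ_ K).hom.f n = 𝟙 _ := by
    rw [← HomologicalComplex.comp_f, Iso.inv_hom_id, HomologicalComplex.id_f]
  rw [h, Category.assoc, Category.assoc] at h2
  rw [← cancel_epi ((λ_ (K.X n)).inv ≫ ((uIso R).inv ▷ K.X n)), Category.assoc, h2]
  simp

end General

section Act

variable {R A : Type u} [CommRing R] [CommRing A] (φ : R →+* A)

/-- the restricted unit complex `A[0]|_R` -/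
noncomputable abbrev uR : DRing.Cx R := (resCx φ).obj (𝟙_ (DRing.Cx A))

lemma isZero_uR (s : ℤ) (hs : s ≠ 0) : IsZero ((uR φ).X s) :=
  Functor.map_isZero (ModuleCat.restrictScalars.{u} φ) (isZero_T (R := A) s hs)

/-- the right action of `A[0]|_R` on `M|_R` -/
noncomputable def ractCx (M : DRing.Cx A) : (resCx φ).obj M ⊗ uR φ ⟶ (resCx φ).obj M :=
  resTenCx φ M (𝟙_ (DRing.Cx A)) ≫ (resCx φ).map (ρ_ M).hom

/-- the left action of `A[0]|_R` on `M|_R` -/
noncomputable def lactCx (M : DRing.Cx A) : uR φ ⊗ (resCx φ).obj M ⟶ (resCx φ).obj M :=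
  resTenCx φ (𝟙_ (DRing.Cx A)) M ≫ (resCx φ).map (λ_ M).hom

@[reassoc]
lemma ractCx_naturality {M M' : DRing.Cx A} (f : M ⟶ M') :
    ((resCx φ).map f ▷ uR φ) ≫ ractCx φ M' = ractCx φ M ≫ (resCx φ).map f := by
  have h := resTenCx_naturality φ f (𝟙 (𝟙_ (DRing.Cx A)))
  rw [CategoryTheory.Functor.map_id, MonoidalCategory.tensorHom_id,
    MonoidalCategory.tensorHom_id] at h
  dsimp only [ractCx]
  rw [reassoc_of% h, Category.assoc, ← Functor.map_comp, ← Functor.map_comp,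
    MonoidalCategory.rightUnitor_naturality]

@[reassoc]
lemma lactCx_naturality {M M' : DRing.Cx A} (f : M ⟶ M') :
    (uR φ ◁ (resCx φ).map f) ≫ lactCx φ M' = lactCx φ M ≫ (resCx φ).map f := by
  have h := resTenCx_naturality φ (𝟙 (𝟙_ (DRing.Cx A))) f
  rw [CategoryTheory.Functor.map_id, MonoidalCategory.id_tensorHom,
    MonoidalCategory.id_tensorHom] at h
  dsimp only [lactCx]
  rw [reassoc_of% h, Category.assoc, ← Functor.map_comp, ← Functor.map_comp,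
    MonoidalCategory.leftUnitor_naturality]

/-- the module level right action -/
noncomputable def ractMod (X : ModuleCat.{u} A) :
    (resM φ).obj X ⊗ (uR φ).X 0 ⟶ (resM φ).obj X :=
  resTen₀app φ X ((𝟙_ (DRing.Cx A)).X 0) ≫ (resM φ).map ((X ◁ (uIso A).hom) ≫ (ρ_ X).hom)

/-- the module level left action -/
noncomputable def lactMod (X : ModuleCat.{u} A) :
    (uR φ).X 0 ⊗ (resM φ).obj X ⟶ (resM φ).obj X :=
  resTen₀app φ ((𝟙_ (DRing.Cx A)).X 0) X ≫ (resM φ).map (((uIso A).hom ▷ X) ≫ (λ_ X).hom)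

lemma ι_ractCx (M : DRing.Cx A) (n : ℤ) :
    ιTensorObj ((resCx φ).obj M) (uR φ) n 0 n (add_zero n) ≫ (ractCx φ M).f n =
      ractMod φ (M.X n) := by
  dsimp only [ractCx, ractMod]
  rw [HomologicalComplex.comp_f]
  erw [ι_resTenCx_assoc φ M (𝟙_ (DRing.Cx A)) n 0 n (add_zero n)]
  congr 1
  erw [← Functor.map_comp]
  congr 1
  exact ι_rightUnitor_hom M n

lemma ι_lactCx (M : DRing.Cx A) (n : ℤ) :
    ιTensorObj (uR φ) ((resCx φ).obj M) 0 n n (zero_add n) ≫ (lactCx φ M).f n =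
      lactMod φ (M.X n) := by
  dsimp only [lactCx, lactMod]
  rw [HomologicalComplex.comp_f]
  erw [ι_resTenCx_assoc φ (𝟙_ (DRing.Cx A)) M 0 n n (zero_add n)]
  congr 1
  erw [← Functor.map_comp]
  congr 1
  exact ι_leftUnitor_hom M n

/-- the chain level projection isomorphism `P ⊗ A[0]|_R ≅ (P ⊗_R A)|_R` -/
noncomputable def pfR (P : DRing.Cx R) : P ⊗ uR φ ⟶ (resCx φ).obj ((extCx φ).obj P) :=
  ((unitCx φ).app P ▷ uR φ) ≫ ractCx φ ((extCx φ).obj P)

lemma pfR_eq (P : DRing.Cx R) :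
    pfR φ P = pf φ P (𝟙_ (DRing.Cx A)) ≫ (resCx φ).map (ρ_ ((extCx φ).obj P)).hom := by
  dsimp only [pfR, pf, ractCx]
  rw [Category.assoc]

instance isIso_pfR (P : DRing.Cx R) : IsIso (pfR φ P) := by
  rw [pfR_eq]
  infer_instance

/-- the chain level projection isomorphism `A[0]|_R ⊗ P ≅ (P ⊗_R A)|_R` -/
noncomputable def pfL (P : DRing.Cx R) : uR φ ⊗ P ⟶ (resCx φ).obj ((extCx φ).obj P) :=
  (uR φ ◁ (unitCx φ).app P) ≫ lactCx φ ((extCx φ).obj P)

lemma pfMod_eq (X : ModuleCat.{u} R) :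
    (β_ ((uR φ).X 0) X).hom ≫
        ((ModuleCat.extendRestrictScalarsAdj.{u, u, u} φ).unit.app X ▷ (uR φ).X 0) ≫
          ractMod φ ((Helper5.Gen.extM φ).obj X) =
      ((uR φ).X 0 ◁ (ModuleCat.extendRestrictScalarsAdj.{u, u, u} φ).unit.app X) ≫
        lactMod φ ((Helper5.Gen.extM φ).obj X) := by
  apply ModuleCat.hom_ext
  apply TensorProduct.ext'
  intro a x
  dsimp only [ractMod, lactMod]
  simp only [ModuleCat.hom_comp, LinearMap.comp_apply]
  rfl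

lemma ι_pfL (P : DRing.Cx R) (n : ℤ) :
    ιTensorObj (uR φ) P 0 n n (zero_add n) ≫ (pfL φ P).f n =
      ((uR φ).X 0 ◁ (ModuleCat.extendRestrictScalarsAdj.{u, u, u} φ).unit.app (P.X n)) ≫
        lactMod φ ((Helper5.Gen.extM φ).obj (P.X n)) := by
  dsimp only [pfL]
  rw [HomologicalComplex.comp_f, ι_whiskerLeft_f_assoc]
  congr 1
  exact ι_lactCx φ ((extCx φ).obj P) n

lemma ι_pfR (P : DRing.Cx R) (n : ℤ) :
    ιTensorObj P (uR φ) n 0 n (add_zero n) ≫ (pfR φ P).f n =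
      ((ModuleCat.extendRestrictScalarsAdj.{u, u, u} φ).unit.app (P.X n) ▷ (uR φ).X 0) ≫
        ractMod φ ((Helper5.Gen.extM φ).obj (P.X n)) := by
  dsimp only [pfR]
  rw [HomologicalComplex.comp_f, ι_whiskerRight_f_assoc]
  congr 1
  exact ι_ractCx φ ((extCx φ).obj P) n

lemma pfL_eq (P : DRing.Cx R) : pfL φ P = (braidCx (uR φ) P).hom ≫ pfR φ P := by
  refine HomologicalComplex.hom_ext _ _ (fun n => ?_)
  refine hom_ext_conc_left (isZero_uR φ) _ _ ?_
  rw [ι_pfL, HomologicalComplex.comp_f]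
  have h1 := ι_braidCx_hom_assoc (uR φ) P 0 n n (zero_add n) ((pfR φ P).f n)
  have h2 : ((0 : ℤ) * n).negOnePow = 1 := by simp
  rw [h2, one_smul] at h1
  refine Eq.trans ?_ h1.symm
  rw [Category.assoc]
  have h3 := ι_pfR φ P n
  refine Eq.trans ?_ (congrArg (fun t => (β_ ((uR φ).X 0) (P.X n)).hom ≫ t) h3.symm)
  exact (pfMod_eq φ (P.X n)).symm

instance isIso_pfL (P : DRing.Cx R) : IsIso (pfL φ P) := by
  rw [pfL_eq]
  infer_instance

end Act

end Groth.Agent.Lib.Helper5.TBC
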