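import Mathlib
import Groth.Agent.Lib.Helper5.TBC.ActCx

/-!
# The two actions on the restriction of a complex of `A'`-modules commute (helper5)
-/

set_option autoImplicit false
set_option backward.isDefEq.respectTransparency false
universe u
open CategoryTheory CategoryTheory.Limits MonoidalCategory

namespace Groth.Agent.Lib.Helper5.TBC
open DTen Helper5.Gen HomologicalComplex Groth.Agent.Lib.Helper5.KProj
  Groth.Agent.Lib.Helper5.ExactPair

section Comm

variable {R A R' A' : Type u} [CommRing R] [CommRing A] [CommRing R'] [CommRing A']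
  {φ : R →+* A} {ρ : R →+* R'} {α : A →+* A'} {φ' : R' →+* A'} (h : α.comp φ = φ'.comp ρ)

lemma cxComm_inv_f (Z : DRing.Cx A') (i : ℤ) :
    (cxComm h Z).inv.f i = (TrivBC.resCommMod h).inv.app (Z.X i) := by
  rw [← cancel_epi ((cxComm h Z).hom.f i), ← HomologicalComplex.comp_f, Iso.hom_inv_id,
    HomologicalComplex.id_f, cxComm_hom_f]
  exact (Iso.hom_inv_id_app (TrivBC.resCommMod h) (Z.X i)).symm

/-- the left action of `R'[0]|_R` on `N|_A|_R` -/
noncomputable def lactCx' (N : DRing.Cx A') :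
    uR ρ ⊗ (resCx φ).obj ((resCx α).obj N) ⟶ (resCx φ).obj ((resCx α).obj N) :=
  (uR ρ ◁ (cxComm h N).hom) ≫ lactCx ρ ((resCx φ').obj N) ≫ (cxComm h N).inv

/-- the module level version -/
noncomputable def lactMod' (Y : ModuleCat.{u} A') :
    (uR ρ).X 0 ⊗ (resM φ).obj ((resM α).obj Y) ⟶ (resM φ).obj ((resM α).obj Y) :=
  ((uR ρ).X 0 ◁ (TrivBC.resCommMod h).hom.app Y) ≫ lactMod ρ ((resM φ').obj Y) ≫
    (TrivBC.resCommMod h).inv.app Y

lemma ι_lactCx' (N : DRing.Cx A') (n : ℤ) :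
    ιTensorObj (uR ρ) ((resCx φ).obj ((resCx α).obj N)) 0 n n (zero_add n) ≫ (lactCx' h N).f n =
      lactMod' h (N.X n) := by
  dsimp only [lactCx', lactMod']
  rw [HomologicalComplex.comp_f, HomologicalComplex.comp_f, ι_whiskerLeft_f_assoc, cxComm_hom_f,
    cxComm_inv_f]
  congr 1
  rw [← Category.assoc]
  congr 1
  exact ι_lactCx ρ ((resCx φ').obj N) n

theorem act_comm_mod (Y : ModuleCat.{u} A') :
    (α_ ((uR ρ).X 0) ((resM φ).obj ((resM α).obj Y)) ((uR φ).X 0)).hom ≫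
        ((uR ρ).X 0 ◁ ractMod φ ((resM α).obj Y)) ≫ lactMod' h Y =
      (lactMod' h Y ▷ (uR φ).X 0) ≫ ractMod φ ((resM α).obj Y) := by
  apply ModuleCat.hom_ext
  apply TensorProduct.ext_threefold
  intro r y a
  show ((φ' ((uIso R').hom.hom r)) • ((α ((uIso A).hom.hom a)) • (show Y from y)) : Y) =
    (α ((uIso A).hom.hom a)) • ((φ' ((uIso R').hom.hom r)) • (show Y from y))
  exact smul_comm _ _ _

/-- **the two actions commute**, at the chain level -/
theorem act_comm_cx (N : DRing.Cx A') :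
    (α_ (uR ρ) ((resCx φ).obj ((resCx α).obj N)) (uR φ)).hom ≫
        (uR ρ ◁ ractCx φ ((resCx α).obj N)) ≫ lactCx' h N =
      (lactCx' h N ▷ uR φ) ≫ ractCx φ ((resCx α).obj N) := by
  refine HomologicalComplex.hom_ext _ _ (fun n => ?_)
  refine hom_ext₃ _ _ _ _ _ (fun i₁ i₂ i₃ i₁₂ h₁₂ h' => ?_)
  by_cases h1 : i₁ = 0
  · by_cases h3 : i₃ = 0
    · subst h1 h3
      obtain rfl : i₂ = i₁₂ := by omega
      obtain rfl : i₂ = n := by omega
      have e1 := ι_associator_hom (uR ρ) ((resCx φ).obj ((resCx α).obj N)) (uR φ) 0 i₂ 0 i₂ i₂ i₂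
        (zero_add i₂) (add_zero i₂) (by omega)
      have e2 := ι_whiskerLeft_f (uR ρ) (ractCx φ ((resCx α).obj N)) 0 i₂ i₂ (zero_add i₂)
      have e3 := ι_lactCx' h N i₂
      have e4 : ιTensorObj ((resCx φ).obj ((resCx α).obj N)) (uR φ) i₂ 0 i₂ (add_zero i₂) ≫
          (ractCx φ ((resCx α).obj N)).f i₂ = ractMod φ ((resM α).obj (N.X i₂)) :=
        ι_ractCx φ ((resCx α).obj N) i₂
      have e5 := ι_whiskerRight_f (lactCx' h N) (uR φ) i₂ 0 i₂ (add_zero i₂)
      have e6 := act_comm_mod h (N.X i₂)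
      have s1 : (ιTensorObj (uR ρ) ((resCx φ).obj ((resCx α).obj N)) 0 i₂ i₂ (zero_add i₂) ▷
            (uR φ).X 0) ≫
          ιTensorObj (uR ρ ⊗ (resCx φ).obj ((resCx α).obj N)) (uR φ) i₂ 0 i₂ (add_zero i₂) ≫
          ((α_ (uR ρ) ((resCx φ).obj ((resCx α).obj N)) (uR φ)).hom ≫
            (uR ρ ◁ ractCx φ ((resCx α).obj N)) ≫ lactCx' h N).f i₂ =
          (α_ ((uR ρ).X 0) ((resM φ).obj ((resM α).obj (N.X i₂))) ((uR φ).X 0)).hom ≫
            ((uR ρ).X 0 ◁ ractMod φ ((resM α).obj (N.X i₂))) ≫ lactMod' h (N.X i₂) := by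
        rw [HomologicalComplex.comp_f, HomologicalComplex.comp_f, reassoc_of% e1,
          reassoc_of% e2, e3, ← MonoidalCategory.whiskerLeft_comp_assoc, e4]
        rfl
      have s2 : (ιTensorObj (uR ρ) ((resCx φ).obj ((resCx α).obj N)) 0 i₂ i₂ (zero_add i₂) ▷
            (uR φ).X 0) ≫
          ιTensorObj (uR ρ ⊗ (resCx φ).obj ((resCx α).obj N)) (uR φ) i₂ 0 i₂ (add_zero i₂) ≫
          ((lactCx' h N ▷ uR φ) ≫ ractCx φ ((resCx α).obj N)).f i₂ =
          (lactMod' h (N.X i₂) ▷ (uR φ).X 0) ≫ ractMod φ ((resM α).obj (N.X i₂)) := by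
        rw [HomologicalComplex.comp_f, reassoc_of% e5, e4,
          ← MonoidalCategory.comp_whiskerRight_assoc, e3]
      exact s1.trans (e6.trans s2.symm)
    · exact (isZero_tensor_right _ (isZero_uR φ i₃ h3)).eq_of_src _ _
  · exact (isZero_tensor_left (isZero_tensor_left (isZero_uR ρ i₁ h1) _) _).eq_of_src _ _

end Comm

end Groth.Agent.Lib.Helper5.TBC
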