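import Mathlib
import Groth.Prelude.Def_TrivBC
import Groth.Agent.Lib.Helper5.TBC.ActCx
import Groth.Agent.Lib.Helper5.DTenLib.Base
import Groth.Agent.Lib.Helper5.KProj.Tri

/-!
# The actions of `A|_R` on restricted objects, in the derived category (helper5)

For a ring map `φ : R → A`, the object `a = A[0]|_R` of `D(R)` acts on `W|_R` for every
`W ∈ D(A)`, on both sides, and the induced maps
`Y ⊗^L a ⟶ (Y ⊗^L_R A)|_R` and `a ⊗^L Y ⟶ (Y ⊗^L_R A)|_R` are isomorphisms.
-/

set_option autoImplicit false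
set_option linter.unusedSectionVars false
universe u
open CategoryTheory CategoryTheory.Limits MonoidalCategory DerivedCategory
attribute [local instance] HasDerivedCategory.standard

namespace Groth.Agent.Lib.Helper5.TBC
open DTen Helper5.Gen Groth.Agent.Lib.Helper5.KProj Groth.Agent.Lib.Helper5.DTenLib

section Basic

variable {R : Type u} [CommRing R] [HasLTen R]

@[reassoc]
lemma LT_map_comp {a a' a'' b b' b'' : Dual.D R} (f : a ⟶ a') (f' : a' ⟶ a'')
    (g : b ⟶ b') (g' : b' ⟶ b'') :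
    (LTen₂ R).map (Prod.mkHom f g) ≫ (LTen₂ R).map (Prod.mkHom f' g') =
      (LTen₂ R).map (Prod.mkHom (f ≫ f') (g ≫ g')) := by
  rw [← Functor.map_comp]
  rfl

lemma LT_map_id (a b : Dual.D R) : (LTen₂ R).map (Prod.mkHom (𝟙 a) (𝟙 b)) = 𝟙 _ := by
  rw [← (LTen₂ R).map_id]
  rfl

@[reassoc]
lemma ε_nat {X X' Y Y' : DRing.Cx R} (f : X ⟶ X') (g : Y ⟶ Y') :
    (LTen₂ R).map (Prod.mkHom (Q.map f) (Q.map g)) ≫ (ε R).app (X', Y') =
      (ε R).app (X, Y) ≫ Q.map (f ⊗ₘ g) := by
  have h := (ε R).naturality (Prod.mkHom f g : (X, Y) ⟶ (X', Y'))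
  rw [tensor₂_map_eq] at h
  exact h

instance isIso_LT_map {a a' b b' : Dual.D R} (f : a ⟶ a') (g : b ⟶ b') [IsIso f] [IsIso g] :
    IsIso ((LTen₂ R).map (Prod.mkHom f g)) := by
  refine ⟨⟨(LTen₂ R).map (Prod.mkHom (inv f) (inv g)), ?_, ?_⟩⟩
  · rw [LT_map_comp, IsIso.hom_inv_id, IsIso.hom_inv_id, LT_map_id]
  · rw [LT_map_comp, IsIso.inv_hom_id, IsIso.inv_hom_id, LT_map_id]

end Basic

section Act

variable {R A : Type u} [CommRing R] [CommRing A] (φ : R →+* A) [HasLTen R]

/-- `A` as an object of `D(R)` -/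
noncomputable abbrev aD : Dual.D R := (DRing.restrictD φ).obj (DTen.unit A)

/-- the right action on the image of a complex -/
noncomputable def ractQ (M : DRing.Cx A) :
    (LTen₂ R).obj ((DRing.restrictD φ).obj (Q.obj M), aD φ) ⟶ (DRing.restrictD φ).obj (Q.obj M) :=
  (LTen₂ R).map (Prod.mkHom ((resFactors φ).hom.app M)
      ((resFactors φ).hom.app (𝟙_ (DRing.Cx A)))) ≫
    (ε R).app ((resCx φ).obj M, uR φ) ≫ Q.map (ractCx φ M) ≫ (resFactors φ).inv.app M

/-- the left action on the image of a complex -/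
noncomputable def lactQ (M : DRing.Cx A) :
    (LTen₂ R).obj (aD φ, (DRing.restrictD φ).obj (Q.obj M)) ⟶ (DRing.restrictD φ).obj (Q.obj M) :=
  (LTen₂ R).map (Prod.mkHom ((resFactors φ).hom.app (𝟙_ (DRing.Cx A)))
      ((resFactors φ).hom.app M)) ≫
    (ε R).app (uR φ, (resCx φ).obj M) ≫ Q.map (lactCx φ M) ≫ (resFactors φ).inv.app M

lemma ractQ_naturality {M M' : DRing.Cx A} (f : M ⟶ M') :
    (LTen₂ R).map (Prod.mkHom ((DRing.restrictD φ).map (Q.map f)) (𝟙 (aD φ))) ≫ ractQ φ M' =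
      ractQ φ M ≫ (DRing.restrictD φ).map (Q.map f) := by
  have e1 := (resFactors φ).hom.naturality f
  have e2 := (resFactors φ).inv.naturality f
  dsimp at e1 e2
  have e3 := ε_nat (R := R) ((resCx φ).map f) (𝟙 (uR φ))
  have e4 := ractCx_naturality φ f
  dsimp only [ractQ]
  rw [Category.assoc, Category.assoc, Category.assoc, ← e2, ← Q.map_comp_assoc, ← e4,
    Q.map_comp_assoc, ← MonoidalCategory.tensorHom_id, ← reassoc_of% e3, LT_map_comp_assoc,
    LT_map_comp_assoc, e1, CategoryTheory.Functor.map_id, Category.id_comp]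
  erw [Category.comp_id]

lemma lactQ_naturality {M M' : DRing.Cx A} (f : M ⟶ M') :
    (LTen₂ R).map (Prod.mkHom (𝟙 (aD φ)) ((DRing.restrictD φ).map (Q.map f))) ≫ lactQ φ M' =
      lactQ φ M ≫ (DRing.restrictD φ).map (Q.map f) := by
  have e1 := (resFactors φ).hom.naturality f
  have e2 := (resFactors φ).inv.naturality f
  dsimp at e1 e2
  have e3 := ε_nat (R := R) (𝟙 (uR φ)) ((resCx φ).map f)
  have e4 := lactCx_naturality φ f
  dsimp only [lactQ]
  rw [Category.assoc, Category.assoc, Category.assoc, ← e2, ← Q.map_comp_assoc, ← e4,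
    Q.map_comp_assoc, ← MonoidalCategory.id_tensorHom, ← reassoc_of% e3, LT_map_comp_assoc,
    LT_map_comp_assoc, e1, CategoryTheory.Functor.map_id, Category.id_comp]
  erw [Category.comp_id]

/-- (plumbing) the right action as a natural transformation on complexes -/
noncomputable def ract₀ :
    Q ⋙ (DRing.restrictD φ ⋙ tensorRightD R (aD φ)) ⟶ Q ⋙ DRing.restrictD φ where
  app M := ractQ φ M
  naturality M M' f := ractQ_naturality φ f

/-- (plumbing) the left action as a natural transformation on complexes -/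
noncomputable def lact₀ :
    Q ⋙ (DRing.restrictD φ ⋙ (LTen R).obj (aD φ)) ⟶ Q ⋙ DRing.restrictD φ where
  app M := lactQ φ M
  naturality M M' f := lactQ_naturality φ f

/-- **the right action** `W|_R ⊗^L a ⟶ W|_R`, natural in `W ∈ D(A)` -/
noncomputable def ract : DRing.restrictD φ ⋙ tensorRightD R (aD φ) ⟶ DRing.restrictD φ :=
  Localization.liftNatTrans Q (qis A) (Q ⋙ (DRing.restrictD φ ⋙ tensorRightD R (aD φ)))
    (Q ⋙ DRing.restrictD φ) _ _ (ract₀ φ)

/-- **the left action** `a ⊗^L W|_R ⟶ W|_R`, natural in `W ∈ D(A)` -/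
noncomputable def lact : DRing.restrictD φ ⋙ (LTen R).obj (aD φ) ⟶ DRing.restrictD φ :=
  Localization.liftNatTrans Q (qis A) (Q ⋙ (DRing.restrictD φ ⋙ (LTen R).obj (aD φ)))
    (Q ⋙ DRing.restrictD φ) _ _ (lact₀ φ)

lemma ract_app_Q (M : DRing.Cx A) : (ract φ).app (Q.obj M) = ractQ φ M := by
  dsimp [ract]
  rw [Localization.liftNatTrans_app]
  dsimp [ract₀, Localization.Lifting.iso]
  erw [Category.id_comp, Category.comp_id]

lemma lact_app_Q (M : DRing.Cx A) : (lact φ).app (Q.obj M) = lactQ φ M := by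
  dsimp [lact]
  rw [Localization.liftNatTrans_app]
  dsimp [lact₀, Localization.Lifting.iso]
  erw [Category.id_comp, Category.comp_id]

@[reassoc]
lemma ract_naturality {W W' : Dual.D A} (g : W ⟶ W') :
    (LTen₂ R).map (Prod.mkHom ((DRing.restrictD φ).map g) (𝟙 (aD φ))) ≫ (ract φ).app W' =
      (ract φ).app W ≫ (DRing.restrictD φ).map g :=
  (ract φ).naturality g

@[reassoc]
lemma lact_naturality {W W' : Dual.D A} (g : W ⟶ W') :
    (LTen₂ R).map (Prod.mkHom (𝟙 (aD φ)) ((DRing.restrictD φ).map g)) ≫ (lact φ).app W' =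
      (lact φ).app W ≫ (DRing.restrictD φ).map g :=
  (lact φ).naturality g

end Act

section Pi

variable {R A : Type u} [CommRing R] [CommRing A] (φ : R →+* A) [HasLTen R]

/-- `π_Y : Y ⊗^L a ⟶ (Y ⊗^L_R A)|_R`, natural in `Y ∈ D(R)` -/
noncomputable def piNat : tensorRightD R (aD φ) ⟶ DRing.LBaseChange φ ⋙ DRing.restrictD φ where
  app Y := (LTen₂ R).map (Prod.mkHom ((myAdj φ).unit.app Y) (𝟙 (aD φ))) ≫
    (ract φ).app ((DRing.LBaseChange φ).obj Y)
  naturality Y Y' g := by
    have e1 := (myAdj φ).unit.naturality g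
    dsimp at e1
    have e2 := ract_naturality φ ((DRing.LBaseChange φ).map g)
    show (LTen₂ R).map (Prod.mkHom g (𝟙 (aD φ))) ≫ _ ≫ _ =
      (_ ≫ _) ≫ (DRing.restrictD φ).map ((DRing.LBaseChange φ).map g)
    rw [Category.assoc, ← e2, LT_map_comp_assoc, LT_map_comp_assoc, e1]

lemma piNat_app (Y : Dual.D R) :
    (piNat φ).app Y = (LTen₂ R).map (Prod.mkHom ((myAdj φ).unit.app Y) (𝟙 (aD φ))) ≫
      (ract φ).app ((DRing.LBaseChange φ).obj Y) := rfl

/-- `σ_Y : a ⊗^L Y ⟶ (Y ⊗^L_R A)|_R`, natural in `Y ∈ D(R)` -/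
noncomputable def sigmaNat : (LTen R).obj (aD φ) ⟶ DRing.LBaseChange φ ⋙ DRing.restrictD φ where
  app Y := (LTen₂ R).map (Prod.mkHom (𝟙 (aD φ)) ((myAdj φ).unit.app Y)) ≫
    (lact φ).app ((DRing.LBaseChange φ).obj Y)
  naturality Y Y' g := by
    have e1 := (myAdj φ).unit.naturality g
    dsimp at e1
    have e2 := lact_naturality φ ((DRing.LBaseChange φ).map g)
    show (LTen₂ R).map (Prod.mkHom (𝟙 (aD φ)) g) ≫ _ ≫ _ =
      (_ ≫ _) ≫ (DRing.restrictD φ).map ((DRing.LBaseChange φ).map g)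
    rw [Category.assoc, ← e2, LT_map_comp_assoc, LT_map_comp_assoc, e1]

lemma sigmaNat_app (Y : Dual.D R) :
    (sigmaNat φ).app Y = (LTen₂ R).map (Prod.mkHom (𝟙 (aD φ)) ((myAdj φ).unit.app Y)) ≫
      (lact φ).app ((DRing.LBaseChange φ).obj Y) := rfl

lemma myAdj_unit_cmp (P : DRing.Cx R) :
    (myAdj φ).unit.app (Q.obj P) ≫ (DRing.restrictD φ).map ((lbcCmp φ).app P) =
      Q.map ((unitCx φ).app P) ≫ (resFactors φ).inv.app ((extCx φ).obj P) :=
  derivedAdj_unit_cmp (ModuleCat.extendRestrictScalarsAdj.{u, u, u} φ) (hasKProjRes_moduleCat R) P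

lemma piNat_app_Q (P : DRing.Cx R) :
    (piNat φ).app (Q.obj P) ≫ (DRing.restrictD φ).map ((lbcCmp φ).app P) ≫
        (resFactors φ).hom.app ((extCx φ).obj P) =
      (LTen₂ R).map (Prod.mkHom (𝟙 (Q.obj P)) ((resFactors φ).hom.app (𝟙_ (DRing.Cx A)))) ≫
        (ε R).app (P, uR φ) ≫ Q.map (pfR φ P) := by
  have h := myAdj_unit_cmp φ P
  have e1 := ract_naturality φ ((lbcCmp φ).app P)
  have e3 := ε_nat (R := R) ((unitCx φ).app P) (𝟙 (uR φ))
  calc (piNat φ).app (Q.obj P) ≫ (DRing.restrictD φ).map ((lbcCmp φ).app P) ≫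
        (resFactors φ).hom.app ((extCx φ).obj P)
      = (LTen₂ R).map (Prod.mkHom ((myAdj φ).unit.app (Q.obj P) ≫
            (DRing.restrictD φ).map ((lbcCmp φ).app P)) (𝟙 (aD φ) ≫ 𝟙 (aD φ))) ≫
          (ract φ).app (Q.obj ((extCx φ).obj P)) ≫ (resFactors φ).hom.app ((extCx φ).obj P) := by
        rw [piNat_app, Category.assoc, ← reassoc_of% e1, LT_map_comp_assoc]
    _ = (LTen₂ R).map (Prod.mkHom (Q.map ((unitCx φ).app P))
            ((resFactors φ).hom.app (𝟙_ (DRing.Cx A)))) ≫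
          (ε R).app ((resCx φ).obj ((extCx φ).obj P), uR φ) ≫
            Q.map (ractCx φ ((extCx φ).obj P)) := by
        rw [h, ract_app_Q]
        dsimp only [ractQ]
        simp only [Category.assoc, Iso.inv_hom_id_app, Category.comp_id]
        rw [LT_map_comp_assoc]
        simp only [Category.assoc, Iso.inv_hom_id_app, Category.id_comp]
        rfl
    _ = (LTen₂ R).map (Prod.mkHom (𝟙 (Q.obj P)) ((resFactors φ).hom.app (𝟙_ (DRing.Cx A)))) ≫
          (LTen₂ R).map (Prod.mkHom (Q.map ((unitCx φ).app P)) (Q.map (𝟙 (uR φ)))) ≫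
          (ε R).app ((resCx φ).obj ((extCx φ).obj P), uR φ) ≫
            Q.map (ractCx φ ((extCx φ).obj P)) := by
        rw [LT_map_comp_assoc, Category.id_comp, CategoryTheory.Functor.map_id]
        erw [Category.comp_id]
    _ = _ := by
        rw [reassoc_of% e3, ← Q.map_comp, MonoidalCategory.tensorHom_id]
        rfl

lemma sigmaNat_app_Q (P : DRing.Cx R) :
    (sigmaNat φ).app (Q.obj P) ≫ (DRing.restrictD φ).map ((lbcCmp φ).app P) ≫
        (resFactors φ).hom.app ((extCx φ).obj P) =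
      (LTen₂ R).map (Prod.mkHom ((resFactors φ).hom.app (𝟙_ (DRing.Cx A))) (𝟙 (Q.obj P))) ≫
        (ε R).app (uR φ, P) ≫ Q.map (pfL φ P) := by
  have h := myAdj_unit_cmp φ P
  have e1 := lact_naturality φ ((lbcCmp φ).app P)
  have e3 := ε_nat (R := R) (𝟙 (uR φ)) ((unitCx φ).app P)
  calc (sigmaNat φ).app (Q.obj P) ≫ (DRing.restrictD φ).map ((lbcCmp φ).app P) ≫
        (resFactors φ).hom.app ((extCx φ).obj P)
      = (LTen₂ R).map (Prod.mkHom (𝟙 (aD φ) ≫ 𝟙 (aD φ)) ((myAdj φ).unit.app (Q.obj P) ≫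
            (DRing.restrictD φ).map ((lbcCmp φ).app P))) ≫
          (lact φ).app (Q.obj ((extCx φ).obj P)) ≫ (resFactors φ).hom.app ((extCx φ).obj P) := by
        rw [sigmaNat_app, Category.assoc, ← reassoc_of% e1, LT_map_comp_assoc]
    _ = (LTen₂ R).map (Prod.mkHom ((resFactors φ).hom.app (𝟙_ (DRing.Cx A)))
            (Q.map ((unitCx φ).app P))) ≫
          (ε R).app (uR φ, (resCx φ).obj ((extCx φ).obj P)) ≫
            Q.map (lactCx φ ((extCx φ).obj P)) := by
        rw [h, lact_app_Q]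
        dsimp only [lactQ]
        simp only [Category.assoc, Iso.inv_hom_id_app, Category.comp_id]
        rw [LT_map_comp_assoc]
        simp only [Category.assoc, Iso.inv_hom_id_app, Category.id_comp]
        rfl
    _ = (LTen₂ R).map (Prod.mkHom ((resFactors φ).hom.app (𝟙_ (DRing.Cx A))) (𝟙 (Q.obj P))) ≫
          (LTen₂ R).map (Prod.mkHom (Q.map (𝟙 (uR φ))) (Q.map ((unitCx φ).app P))) ≫
          (ε R).app (uR φ, (resCx φ).obj ((extCx φ).obj P)) ≫
            Q.map (lactCx φ ((extCx φ).obj P)) := by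
        rw [LT_map_comp_assoc, Category.id_comp, CategoryTheory.Functor.map_id]
        erw [Category.comp_id]
    _ = _ := by
        rw [reassoc_of% e3, ← Q.map_comp, MonoidalCategory.id_tensorHom]
        rfl

instance isIso_piNat_app_Q (P : DRing.Cx R) [P.IsKProjective] :
    IsIso ((piNat φ).app (Q.obj P)) := by
  have h := piNat_app_Q φ P
  haveI : IsIso ((ε R).app (P, uR φ)) :=
    isIso_ε_of_isKFlat R P (uR φ) (Or.inl (isKFlat_of_isKProjective P))
  haveI : IsIso ((piNat φ).app (Q.obj P) ≫ (DRing.restrictD φ).map ((lbcCmp φ).app P) ≫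
      (resFactors φ).hom.app ((extCx φ).obj P)) := by
    rw [h]
    infer_instance
  exact IsIso.of_isIso_comp_right _ ((DRing.restrictD φ).map ((lbcCmp φ).app P) ≫
      (resFactors φ).hom.app ((extCx φ).obj P))

instance isIso_sigmaNat_app_Q (P : DRing.Cx R) [P.IsKProjective] :
    IsIso ((sigmaNat φ).app (Q.obj P)) := by
  have h := sigmaNat_app_Q φ P
  haveI : IsIso ((ε R).app (uR φ, P)) :=
    isIso_ε_of_isKFlat R (uR φ) P (Or.inr (isKFlat_of_isKProjective P))
  haveI : IsIso ((sigmaNat φ).app (Q.obj P) ≫ (DRing.restrictD φ).map ((lbcCmp φ).app P) ≫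
      (resFactors φ).hom.app ((extCx φ).obj P)) := by
    rw [h]
    infer_instance
  exact IsIso.of_isIso_comp_right _ ((DRing.restrictD φ).map ((lbcCmp φ).app P) ≫
      (resFactors φ).hom.app ((extCx φ).obj P))

instance isIso_piNat_app (Y : Dual.D R) : IsIso ((piNat φ).app Y) := by
  obtain ⟨P, hP, ⟨e⟩⟩ := exists_kproj_rep Y
  have h := (piNat φ).naturality e.hom
  haveI : IsIso ((piNat φ).app (DRing.toD P)) := isIso_piNat_app_Q φ P
  haveI : IsIso ((tensorRightD R (aD φ)).map e.hom ≫ (piNat φ).app Y) := by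
    rw [h]
    infer_instance
  exact IsIso.of_isIso_comp_left ((tensorRightD R (aD φ)).map e.hom) _

instance isIso_sigmaNat_app (Y : Dual.D R) : IsIso ((sigmaNat φ).app Y) := by
  obtain ⟨P, hP, ⟨e⟩⟩ := exists_kproj_rep Y
  have h := (sigmaNat φ).naturality e.hom
  haveI : IsIso ((sigmaNat φ).app (DRing.toD P)) := isIso_sigmaNat_app_Q φ P
  haveI : IsIso (((LTen R).obj (aD φ)).map e.hom ≫ (sigmaNat φ).app Y) := by
    rw [h]
    infer_instance
  exact IsIso.of_isIso_comp_left (((LTen R).obj (aD φ)).map e.hom) _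

instance isIso_piNat : IsIso (piNat φ) := NatIso.isIso_of_isIso_app _

instance isIso_sigmaNat : IsIso (sigmaNat φ) := NatIso.isIso_of_isIso_app _

/-- the triangle identity: on a restricted object, `π` followed by the counit is the action -/
lemma piNat_counit (W : Dual.D A) :
    (piNat φ).app ((DRing.restrictD φ).obj W) ≫
        (DRing.restrictD φ).map ((myAdj φ).counit.app W) = (ract φ).app W := by
  have e1 : (LTen₂ R).map (Prod.mkHom ((DRing.restrictD φ).map ((myAdj φ).counit.app W))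
      (𝟙 (aD φ))) ≫ (ract φ).app W =
      (ract φ).app ((DRing.LBaseChange φ).obj ((DRing.restrictD φ).obj W)) ≫
        (DRing.restrictD φ).map ((myAdj φ).counit.app W) :=
    ract_naturality φ ((myAdj φ).counit.app W)
  have e2 := (myAdj φ).right_triangle_components W
  rw [piNat_app, Category.assoc, ← e1, LT_map_comp_assoc, e2, Category.id_comp, LT_map_id]
  exact Category.id_comp _

end Pi

end Groth.Agent.Lib.Helper5.TBC
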