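import Mathlib
import Groth.Prelude.Def_TrivBC
import Groth.Agent.Lib.Helper5.TBC.ActD
import Groth.Agent.Lib.Helper5.TBC.ActAssocCx
import Groth.Agent.Lib.Helper5.DTenLib.EvalTen

/-!
# The actions of `R'|_R` and `A|_R` on the restriction of an object of `D(A')` commute (helper5)
-/

set_option autoImplicit false
set_option linter.unusedSectionVars false
universe u
open CategoryTheory CategoryTheory.Limits MonoidalCategory DerivedCategory
attribute [local instance] HasDerivedCategory.standard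

namespace Groth.Agent.Lib.Helper5.TBC
open DTen Helper5.Gen Groth.Agent.Lib.Helper5.KProj Groth.Agent.Lib.Helper5.DTenLib

section Beta

variable {R : Type u} [CommRing R] [HasLTen R] [HasLTen₃ R] [IsSymMonoidal R]

/-- the associator of `D(R)` on the images of three complexes -/
lemma associator_β (X Y Z : DRing.Cx R) :
    (DTen.associator (Q.obj X) (Q.obj Y) (Q.obj Z)).hom ≫
        (LTen₂ R).map (Prod.mkHom (𝟙 (Q.obj X)) ((ε R).app (Y, Z))) ≫ (ε R).app (X, Y ⊗ Z) =
      (LTen₂ R).map (Prod.mkHom ((ε R).app (X, Y)) (𝟙 (Q.obj Z))) ≫ (ε R).app (X ⊗ Y, Z) ≫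
        Q.map (α_ X Y Z).hom := by
  have h1 := associator_hom_assocR (Q.obj X) (Q.obj Y) (Q.obj Z)
  have h2 := assocR_fac R (X, (Y, Z))
  have h3 := assocL_fac R (X, (Y, Z))
  calc (DTen.associator (Q.obj X) (Q.obj Y) (Q.obj Z)).hom ≫
        (LTen₂ R).map (Prod.mkHom (𝟙 (Q.obj X)) ((ε R).app (Y, Z))) ≫ (ε R).app (X, Y ⊗ Z)
      = (DTen.associator (Q.obj X) (Q.obj Y) (Q.obj Z)).hom ≫ (βR R).app (X, (Y, Z)) := rfl
    _ = (DTen.associator (Q.obj X) (Q.obj Y) (Q.obj Z)).hom ≫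
          (assocR R).app ((QQQ R).obj (X, (Y, Z))) ≫ (ε₃ R).app (X, (Y, Z)) := by rw [h2]
    _ = (assocL R).app ((QQQ R).obj (X, (Y, Z))) ≫ (ε₃ R).app (X, (Y, Z)) := by
        rw [← Category.assoc]
        exact congrArg (fun t => t ≫ (ε₃ R).app (X, (Y, Z))) h1
    _ = (βL R).app (X, (Y, Z)) := h3
    _ = _ := rfl

end Beta

section Comm

variable {R A R' A' : Type u} [CommRing R] [CommRing A] [CommRing R'] [CommRing A']
  {φ : R →+* A} {ρ : R →+* R'} {α : A →+* A'} {φ' : R' →+* A'} (h : α.comp φ = φ'.comp ρ)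
  [HasLTen R]

/-- `(QN)|_A|_R ≅ Q(N|_A|_R)` -/
noncomputable def xIso (N : DRing.Cx A') :
    (DRing.restrictD φ).obj ((DRing.restrictD α).obj (Q.obj N)) ≅
      Q.obj ((resCx φ).obj ((resCx α).obj N)) :=
  (DRing.restrictD φ).mapIso ((resFactors α).app N) ≪≫ (resFactors φ).app ((resCx α).obj N)

lemma resComm_hom_app_Q' (N : DRing.Cx A') :
    (TrivBC.resComm h).hom.app (Q.obj N) =
      (xIso (φ := φ) (α := α) N).hom ≫ Q.map (cxComm h N).hom ≫
        (xIso (φ := ρ) (α := φ') N).inv := by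
  rw [resComm_hom_app_Q]
  dsimp only [xIso, Iso.trans_hom, Iso.trans_inv, Functor.mapIso_hom, Functor.mapIso_inv,
    Iso.app_hom, Iso.app_inv]
  simp only [Category.assoc]

lemma resComm_inv_app_Q' (N : DRing.Cx A') :
    (TrivBC.resComm h).inv.app (Q.obj N) =
      (xIso (φ := ρ) (α := φ') N).hom ≫ Q.map (cxComm h N).inv ≫
        (xIso (φ := φ) (α := α) N).inv := by
  rw [← cancel_epi ((TrivBC.resComm h).hom.app (Q.obj N)), Iso.hom_inv_id_app,
    resComm_hom_app_Q']
  simp only [Category.assoc, Iso.inv_hom_id_assoc]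
  rw [← Q.map_comp_assoc, Iso.hom_inv_id, Q.map_id, Category.id_comp, Iso.hom_inv_id]

/-- the left action of `r = R'|_R` on `V|_A|_R` for `V ∈ D(A')` -/
noncomputable def kp (V : Dual.D A') :
    (LTen₂ R).obj (aD ρ, (DRing.restrictD φ).obj ((DRing.restrictD α).obj V)) ⟶
      (DRing.restrictD φ).obj ((DRing.restrictD α).obj V) :=
  (LTen₂ R).map (Prod.mkHom (𝟙 (aD ρ)) ((TrivBC.resComm h).hom.app V)) ≫
    (lact ρ).app ((DRing.restrictD φ').obj V) ≫ (TrivBC.resComm h).inv.app V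

@[reassoc]
lemma kp_naturality {V V' : Dual.D A'} (g : V ⟶ V') :
    (LTen₂ R).map (Prod.mkHom (𝟙 (aD ρ))
        ((DRing.restrictD φ).map ((DRing.restrictD α).map g))) ≫ kp h V' =
      kp h V ≫ (DRing.restrictD φ).map ((DRing.restrictD α).map g) := by
  have e1 := (TrivBC.resComm h).hom.naturality g
  have e2 := (TrivBC.resComm h).inv.naturality g
  dsimp at e1 e2
  have e3 := lact_naturality ρ ((DRing.restrictD φ').map g)
  dsimp only [kp]
  rw [Category.assoc, Category.assoc, ← e2, ← reassoc_of% e3, LT_map_comp_assoc,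
    LT_map_comp_assoc, e1, Category.id_comp]

/-- the right action on the restriction of the image of a complex of `A'`-modules -/
lemma ract_app_res_Q (N : DRing.Cx A') :
    (ract φ).app ((DRing.restrictD α).obj (Q.obj N)) =
      (LTen₂ R).map (Prod.mkHom (xIso (φ := φ) (α := α) N).hom
          ((resFactors φ).hom.app (𝟙_ (DRing.Cx A)))) ≫
        (ε R).app ((resCx φ).obj ((resCx α).obj N), uR φ) ≫
          Q.map (ractCx φ ((resCx α).obj N)) ≫ (xIso (φ := φ) (α := α) N).inv := by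
  have e1 := ract_naturality (R := R) φ ((resFactors α).hom.app N)
  have e2 : (ract φ).app ((DRing.restrictD α).obj (Q.obj N)) =
      (LTen₂ R).map (Prod.mkHom ((DRing.restrictD φ).map ((resFactors α).hom.app N)) (𝟙 (aD φ))) ≫
        (ract φ).app (Q.obj ((resCx α).obj N)) ≫
          (DRing.restrictD φ).map ((resFactors α).inv.app N) := by
    rw [reassoc_of% e1, ← Functor.map_comp, Iso.hom_inv_id_app]
    erw [CategoryTheory.Functor.map_id]
    exact (Category.comp_id _).symm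
  rw [e2, ract_app_Q]
  dsimp only [ractQ, xIso, Iso.trans_hom, Iso.trans_inv, Functor.mapIso_hom, Functor.mapIso_inv,
    Iso.app_hom, Iso.app_inv]
  simp only [Category.assoc]
  rw [LT_map_comp_assoc, Category.id_comp]

/-- the left action on the image of a complex of `A'`-modules -/
lemma kp_app_Q (N : DRing.Cx A') :
    kp h (Q.obj N) =
      (LTen₂ R).map (Prod.mkHom ((resFactors ρ).hom.app (𝟙_ (DRing.Cx R')))
          (xIso (φ := φ) (α := α) N).hom) ≫
        (ε R).app (uR ρ, (resCx φ).obj ((resCx α).obj N)) ≫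
          Q.map (lactCx' h N) ≫ (xIso (φ := φ) (α := α) N).inv := by
  have e1 := lact_naturality (R := R) ρ ((resFactors φ').hom.app N)
  have e2 : (lact ρ).app ((DRing.restrictD φ').obj (Q.obj N)) =
      (LTen₂ R).map (Prod.mkHom (𝟙 (aD ρ)) ((DRing.restrictD ρ).map ((resFactors φ').hom.app N))) ≫
        (lact ρ).app (Q.obj ((resCx φ').obj N)) ≫
          (DRing.restrictD ρ).map ((resFactors φ').inv.app N) := by
    rw [reassoc_of% e1, ← Functor.map_comp, Iso.hom_inv_id_app]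
    erw [CategoryTheory.Functor.map_id]
    exact (Category.comp_id _).symm
  have e3 := ε_nat (R := R) (𝟙 (uR ρ)) (cxComm h N).hom
  dsimp only [kp]
  rw [e2, lact_app_Q, resComm_hom_app_Q', resComm_inv_app_Q']
  dsimp only [lactQ, lactCx']
  have e4 : (DRing.restrictD ρ).map ((resFactors φ').inv.app N) ≫
      (xIso (φ := ρ) (α := φ') N).hom = (resFactors ρ).hom.app ((resCx φ').obj N) := by
    dsimp only [xIso, Iso.trans_hom, Functor.mapIso_hom, Iso.app_hom]
    rw [← Functor.map_comp_assoc, Iso.inv_hom_id_app, CategoryTheory.Functor.map_id,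
      Category.id_comp]
  have e5 : (xIso (φ := ρ) (α := φ') N).inv ≫
      (DRing.restrictD ρ).map ((resFactors φ').hom.app N) =
        (resFactors ρ).inv.app ((resCx φ').obj N) := by
    dsimp only [xIso, Iso.trans_inv, Functor.mapIso_inv, Iso.app_inv]
    rw [Category.assoc, ← Functor.map_comp, Iso.inv_hom_id_app, CategoryTheory.Functor.map_id,
      Category.comp_id]
  simp only [Category.assoc]
  rw [reassoc_of% e4, Iso.inv_hom_id_app_assoc, LT_map_comp_assoc, LT_map_comp_assoc]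
  simp only [Category.assoc, Category.id_comp]
  rw [reassoc_of% e5, Iso.inv_hom_id_app]
  erw [Category.comp_id]
  have e6 : (LTen₂ R).map (Prod.mkHom ((resFactors ρ).hom.app (𝟙_ (DRing.Cx R')))
      ((xIso (φ := φ) (α := α) N).hom ≫ Q.map (cxComm h N).hom)) =
      (LTen₂ R).map (Prod.mkHom ((resFactors ρ).hom.app (𝟙_ (DRing.Cx R')))
        (xIso (φ := φ) (α := α) N).hom) ≫
      (LTen₂ R).map (Prod.mkHom (Q.map (𝟙 (uR ρ))) (Q.map (cxComm h N).hom)) := by
    rw [LT_map_comp, CategoryTheory.Functor.map_id]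
    congr 2
    exact (Category.comp_id _).symm
  rw [e6, Category.assoc, reassoc_of% e3, MonoidalCategory.id_tensorHom, Q.map_comp, Q.map_comp,
    Category.assoc, Category.assoc]

end Comm

section Conj

variable {R : Type u} [CommRing R] [HasLTen R] [HasLTen₃ R] [IsSymMonoidal R]

lemma conj_left {r r' X X' a a' : Dual.D R} (fr : r ⟶ r') (x : X ≅ X') (fa : a ⟶ a')
    (m : (LTen₂ R).obj (X', a') ⟶ X') (l : (LTen₂ R).obj (r', X') ⟶ X') :
    (DTen.associator r X a).hom ≫
        (LTen₂ R).map (Prod.mkHom (𝟙 r) ((LTen₂ R).map (Prod.mkHom x.hom fa) ≫ m ≫ x.inv)) ≫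
          ((LTen₂ R).map (Prod.mkHom fr x.hom) ≫ l ≫ x.inv) =
      (LTen₂ R).map (Prod.mkHom ((LTen₂ R).map (Prod.mkHom fr x.hom)) fa) ≫
        ((DTen.associator r' X' a').hom ≫ (LTen₂ R).map (Prod.mkHom (𝟙 r') m) ≫ l) ≫ x.inv := by
  have e := associator_naturality fr x.hom fa
  simp only [Category.assoc]
  rw [reassoc_of% e, LT_map_comp_assoc, LT_map_comp_assoc]
  simp only [Category.assoc, Iso.inv_hom_id, Category.comp_id, Category.id_comp]

lemma conj_right {r r' X X' a a' : Dual.D R} (fr : r ⟶ r') (x : X ≅ X') (fa : a ⟶ a')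
    (m : (LTen₂ R).obj (X', a') ⟶ X') (l : (LTen₂ R).obj (r', X') ⟶ X') :
    (LTen₂ R).map (Prod.mkHom ((LTen₂ R).map (Prod.mkHom fr x.hom) ≫ l ≫ x.inv) (𝟙 a)) ≫
        ((LTen₂ R).map (Prod.mkHom x.hom fa) ≫ m ≫ x.inv) =
      (LTen₂ R).map (Prod.mkHom ((LTen₂ R).map (Prod.mkHom fr x.hom)) fa) ≫
        ((LTen₂ R).map (Prod.mkHom l (𝟙 a')) ≫ m) ≫ x.inv := by
  simp only [Category.assoc]
  rw [LT_map_comp_assoc, LT_map_comp_assoc]
  simp only [Category.assoc, Iso.inv_hom_id, Category.comp_id, Category.id_comp]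

end Conj

section Main

variable {R A R' A' : Type u} [CommRing R] [CommRing A] [CommRing R'] [CommRing A']
  {φ : R →+* A} {ρ : R →+* R'} {α : A →+* A'} {φ' : R' →+* A'} (h : α.comp φ = φ'.comp ρ)
  [HasLTen R] [HasLTen₃ R] [IsSymMonoidal R]

/-- the two actions commute, on the images of complexes -/
lemma act_comm_core (N : DRing.Cx A') :
    (DTen.associator (Q.obj (uR ρ)) (Q.obj ((resCx φ).obj ((resCx α).obj N)))
          (Q.obj (uR φ))).hom ≫
        (LTen₂ R).map (Prod.mkHom (𝟙 (Q.obj (uR ρ)))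
          ((ε R).app ((resCx φ).obj ((resCx α).obj N), uR φ) ≫
            Q.map (ractCx φ ((resCx α).obj N)))) ≫
          ((ε R).app (uR ρ, (resCx φ).obj ((resCx α).obj N)) ≫ Q.map (lactCx' h N)) =
      (LTen₂ R).map (Prod.mkHom
          ((ε R).app (uR ρ, (resCx φ).obj ((resCx α).obj N)) ≫ Q.map (lactCx' h N))
          (𝟙 (Q.obj (uR φ)))) ≫
        ((ε R).app ((resCx φ).obj ((resCx α).obj N), uR φ) ≫
          Q.map (ractCx φ ((resCx α).obj N))) := by
  have e1 := associator_β (uR ρ) ((resCx φ).obj ((resCx α).obj N)) (uR φ)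
  have e2 := ε_nat (R := R) (𝟙 (uR ρ)) (ractCx φ ((resCx α).obj N))
  have e3 := ε_nat (R := R) (lactCx' h N) (𝟙 (uR φ))
  have e4 := act_comm_cx h N
  have s1 : (LTen₂ R).map (Prod.mkHom (𝟙 (Q.obj (uR ρ)))
      ((ε R).app ((resCx φ).obj ((resCx α).obj N), uR φ) ≫
        Q.map (ractCx φ ((resCx α).obj N)))) =
      (LTen₂ R).map (Prod.mkHom (𝟙 (Q.obj (uR ρ)))
        ((ε R).app ((resCx φ).obj ((resCx α).obj N), uR φ))) ≫
      (LTen₂ R).map (Prod.mkHom (Q.map (𝟙 (uR ρ))) (Q.map (ractCx φ ((resCx α).obj N)))) := by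
    rw [LT_map_comp, Q.map_id, Category.comp_id]
  have s2 : (LTen₂ R).map (Prod.mkHom
      ((ε R).app (uR ρ, (resCx φ).obj ((resCx α).obj N)) ≫ Q.map (lactCx' h N))
      (𝟙 (Q.obj (uR φ)))) =
      (LTen₂ R).map (Prod.mkHom ((ε R).app (uR ρ, (resCx φ).obj ((resCx α).obj N)))
        (𝟙 (Q.obj (uR φ)))) ≫
      (LTen₂ R).map (Prod.mkHom (Q.map (lactCx' h N)) (Q.map (𝟙 (uR φ)))) := by
    rw [LT_map_comp, Q.map_id, Category.comp_id]
  rw [s1, s2]
  simp only [Category.assoc]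
  rw [reassoc_of% e2, reassoc_of% e1, reassoc_of% e3, ← Q.map_comp, ← Q.map_comp, ← Q.map_comp,
    MonoidalCategory.id_tensorHom, MonoidalCategory.tensorHom_id, e4]

/-- **the two actions commute**, on the image of a complex of `A'`-modules -/
theorem act_comm_Q (N : DRing.Cx A') :
    (DTen.associator (aD ρ) ((DRing.restrictD φ).obj ((DRing.restrictD α).obj (Q.obj N)))
          (aD φ)).hom ≫
        (LTen₂ R).map (Prod.mkHom (𝟙 (aD ρ))
          ((ract φ).app ((DRing.restrictD α).obj (Q.obj N)))) ≫ kp h (Q.obj N) =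
      (LTen₂ R).map (Prod.mkHom (kp h (Q.obj N)) (𝟙 (aD φ))) ≫
        (ract φ).app ((DRing.restrictD α).obj (Q.obj N)) := by
  have hR : (ract φ).app ((DRing.restrictD α).obj (Q.obj N)) =
      (LTen₂ R).map (Prod.mkHom (xIso (φ := φ) (α := α) N).hom
          ((resFactors φ).hom.app (𝟙_ (DRing.Cx A)))) ≫
        ((ε R).app ((resCx φ).obj ((resCx α).obj N), uR φ) ≫
          Q.map (ractCx φ ((resCx α).obj N))) ≫ (xIso (φ := φ) (α := α) N).inv := by
    rw [ract_app_res_Q]
    simp only [Category.assoc]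
  have hK : kp h (Q.obj N) =
      (LTen₂ R).map (Prod.mkHom ((resFactors ρ).hom.app (𝟙_ (DRing.Cx R')))
          (xIso (φ := φ) (α := α) N).hom) ≫
        ((ε R).app (uR ρ, (resCx φ).obj ((resCx α).obj N)) ≫
          Q.map (lactCx' h N)) ≫ (xIso (φ := φ) (α := α) N).inv := by
    rw [kp_app_Q]
    simp only [Category.assoc]
  have e1 := conj_left (r := aD ρ) (r' := Q.obj (uR ρ)) (a := aD φ) (a' := Q.obj (uR φ))
    ((resFactors ρ).hom.app (𝟙_ (DRing.Cx R'))) (xIso (φ := φ) (α := α) N)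
    ((resFactors φ).hom.app (𝟙_ (DRing.Cx A)))
    ((ε R).app ((resCx φ).obj ((resCx α).obj N), uR φ) ≫ Q.map (ractCx φ ((resCx α).obj N)))
    ((ε R).app (uR ρ, (resCx φ).obj ((resCx α).obj N)) ≫ Q.map (lactCx' h N))
  have e2 := conj_right (r := aD ρ) (r' := Q.obj (uR ρ)) (a := aD φ) (a' := Q.obj (uR φ))
    ((resFactors ρ).hom.app (𝟙_ (DRing.Cx R'))) (xIso (φ := φ) (α := α) N)
    ((resFactors φ).hom.app (𝟙_ (DRing.Cx A)))
    ((ε R).app ((resCx φ).obj ((resCx α).obj N), uR φ) ≫ Q.map (ractCx φ ((resCx α).obj N)))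
    ((ε R).app (uR ρ, (resCx φ).obj ((resCx α).obj N)) ≫ Q.map (lactCx' h N))
  rw [hR, hK, e1, e2, act_comm_core h N]

/-- **the two actions commute** on `V|_A|_R`, for every `V ∈ D(A')` -/
theorem act_comm (V : Dual.D A') :
    (DTen.associator (aD ρ) ((DRing.restrictD φ).obj ((DRing.restrictD α).obj V)) (aD φ)).hom ≫
        (LTen₂ R).map (Prod.mkHom (𝟙 (aD ρ)) ((ract φ).app ((DRing.restrictD α).obj V))) ≫
          kp h V =
      (LTen₂ R).map (Prod.mkHom (kp h V) (𝟙 (aD φ))) ≫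
        (ract φ).app ((DRing.restrictD α).obj V) := by
  let N := Q.objPreimage V
  let e : Q.obj N ≅ V := Q.objObjPreimageIso V
  let x : (DRing.restrictD φ).obj ((DRing.restrictD α).obj (Q.obj N)) ≅
      (DRing.restrictD φ).obj ((DRing.restrictD α).obj V) :=
    (DRing.restrictD φ).mapIso ((DRing.restrictD α).mapIso e)
  have xh : x.hom = (DRing.restrictD φ).map ((DRing.restrictD α).map e.hom) := rfl
  have e0 := act_comm_Q h N
  have e1 : (LTen₂ R).map (Prod.mkHom (𝟙 (aD ρ)) x.hom) ≫ kp h V = kp h (Q.obj N) ≫ x.hom :=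
    kp_naturality h e.hom
  have e2 : (LTen₂ R).map (Prod.mkHom x.hom (𝟙 (aD φ))) ≫
      (ract φ).app ((DRing.restrictD α).obj V) =
      (ract φ).app ((DRing.restrictD α).obj (Q.obj N)) ≫ x.hom :=
    ract_naturality (R := R) φ ((DRing.restrictD α).map e.hom)
  have e3 := associator_naturality (𝟙 (aD ρ)) x.hom (𝟙 (aD φ))
  have s : (LTen₂ R).map (Prod.mkHom (𝟙 (aD ρ))
      ((ract φ).app ((DRing.restrictD α).obj (Q.obj N)) ≫ x.hom)) =
      (LTen₂ R).map (Prod.mkHom (𝟙 (aD ρ)) ((ract φ).app ((DRing.restrictD α).obj (Q.obj N)))) ≫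
        (LTen₂ R).map (Prod.mkHom (𝟙 (aD ρ)) x.hom) := by
    rw [LT_map_comp, Category.id_comp]
  have s' : (LTen₂ R).map (Prod.mkHom (kp h (Q.obj N) ≫ x.hom) (𝟙 (aD φ))) =
      (LTen₂ R).map (Prod.mkHom (kp h (Q.obj N)) (𝟙 (aD φ))) ≫
        (LTen₂ R).map (Prod.mkHom x.hom (𝟙 (aD φ))) := by
    rw [LT_map_comp, Category.id_comp]
  have key : (LTen₂ R).map (Prod.mkHom ((LTen₂ R).map (Prod.mkHom (𝟙 (aD ρ)) x.hom)) (𝟙 (aD φ))) ≫
      ((DTen.associator (aD ρ) ((DRing.restrictD φ).obj ((DRing.restrictD α).obj V))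
          (aD φ)).hom ≫
        (LTen₂ R).map (Prod.mkHom (𝟙 (aD ρ)) ((ract φ).app ((DRing.restrictD α).obj V))) ≫
          kp h V) =
      (LTen₂ R).map (Prod.mkHom ((LTen₂ R).map (Prod.mkHom (𝟙 (aD ρ)) x.hom)) (𝟙 (aD φ))) ≫
      ((LTen₂ R).map (Prod.mkHom (kp h V) (𝟙 (aD φ))) ≫
        (ract φ).app ((DRing.restrictD α).obj V)) := by
    calc _ = (DTen.associator (aD ρ)
              ((DRing.restrictD φ).obj ((DRing.restrictD α).obj (Q.obj N))) (aD φ)).hom ≫
            (LTen₂ R).map (Prod.mkHom (𝟙 (aD ρ))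
              ((ract φ).app ((DRing.restrictD α).obj (Q.obj N)) ≫ x.hom)) ≫ kp h V := by
          rw [reassoc_of% e3, LT_map_comp_assoc, Category.id_comp, e2]
      _ = ((DTen.associator (aD ρ)
              ((DRing.restrictD φ).obj ((DRing.restrictD α).obj (Q.obj N))) (aD φ)).hom ≫
            (LTen₂ R).map (Prod.mkHom (𝟙 (aD ρ))
              ((ract φ).app ((DRing.restrictD α).obj (Q.obj N)))) ≫ kp h (Q.obj N)) ≫ x.hom := by
          rw [s, Category.assoc, e1, Category.assoc, Category.assoc]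
      _ = (LTen₂ R).map (Prod.mkHom (kp h (Q.obj N)) (𝟙 (aD φ))) ≫
            (ract φ).app ((DRing.restrictD α).obj (Q.obj N)) ≫ x.hom := by
          rw [e0, Category.assoc]
      _ = _ := by
          rw [LT_map_comp_assoc, e1, Category.id_comp, s', Category.assoc, e2]
  exact (cancel_epi _).1 key

/-- `k_W : r ⊗^L W|_R ⟶ (W ⊗^L_A A')|_A|_R` -/
noncomputable def kW (W : Dual.D A) :
    (LTen₂ R).obj (aD ρ, (DRing.restrictD φ).obj W) ⟶
      (DRing.restrictD φ).obj ((DRing.restrictD α).obj ((DRing.LBaseChange α).obj W)) :=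
  (LTen₂ R).map (Prod.mkHom (𝟙 (aD ρ)) ((DRing.restrictD φ).map ((myAdj α).unit.app W))) ≫
    kp h ((DRing.LBaseChange α).obj W)

/-- **`k_W` is linear for the right action of `a = A|_R`** -/
theorem act_comm_kW (W : Dual.D A) :
    (DTen.associator (aD ρ) ((DRing.restrictD φ).obj W) (aD φ)).hom ≫
        (LTen₂ R).map (Prod.mkHom (𝟙 (aD ρ)) ((ract φ).app W)) ≫ kW h W =
      (LTen₂ R).map (Prod.mkHom (kW h W) (𝟙 (aD φ))) ≫
        (ract φ).app ((DRing.restrictD α).obj ((DRing.LBaseChange α).obj W)) := by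
  have e1 := act_comm h ((DRing.LBaseChange α).obj W)
  have e2 : (LTen₂ R).map (Prod.mkHom ((DRing.restrictD φ).map ((myAdj α).unit.app W))
      (𝟙 (aD φ))) ≫ (ract φ).app ((DRing.restrictD α).obj ((DRing.LBaseChange α).obj W)) =
      (ract φ).app W ≫ (DRing.restrictD φ).map ((myAdj α).unit.app W) :=
    ract_naturality (R := R) φ ((myAdj α).unit.app W)
  have e3 := associator_naturality (𝟙 (aD ρ)) ((DRing.restrictD φ).map ((myAdj α).unit.app W))
    (𝟙 (aD φ))
  have s : (LTen₂ R).map (Prod.mkHom (kW h W) (𝟙 (aD φ))) =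
      (LTen₂ R).map (Prod.mkHom ((LTen₂ R).map (Prod.mkHom (𝟙 (aD ρ))
        ((DRing.restrictD φ).map ((myAdj α).unit.app W)))) (𝟙 (aD φ))) ≫
      (LTen₂ R).map (Prod.mkHom (kp h ((DRing.LBaseChange α).obj W)) (𝟙 (aD φ))) := by
    dsimp only [kW]
    rw [LT_map_comp, Category.id_comp]
  rw [s, Category.assoc, ← e1, reassoc_of% e3, LT_map_comp_assoc, Category.id_comp, e2]
  dsimp only [kW]
  rw [LT_map_comp_assoc, Category.id_comp]

/-- `k_W` through the comparison `cmp` -/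
lemma kW_eq (W : Dual.D A) :
    kW h W = (sigmaNat ρ).app ((DRing.restrictD φ).obj W) ≫
      (DRing.restrictD ρ).map (TrivBC.cmp (myAdj ρ) (myAdj α) h W) ≫
        (TrivBC.resComm h).inv.app ((DRing.LBaseChange α).obj W) := by
  have e1 : (myAdj ρ).unit.app ((DRing.restrictD φ).obj W) ≫
      (DRing.restrictD ρ).map (TrivBC.cmp (myAdj ρ) (myAdj α) h W) =
      (DRing.restrictD φ).map ((myAdj α).unit.app W) ≫
        (TrivBC.resComm h).hom.app ((DRing.LBaseChange α).obj W) := by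
    have e0 := ((myAdj ρ).homEquiv _ _).apply_symm_apply
      ((DRing.restrictD φ).map ((myAdj α).unit.app W) ≫
        (TrivBC.resComm h).hom.app ((DRing.LBaseChange α).obj W))
    rw [Adjunction.homEquiv_unit] at e0
    exact e0
  have e2 : (LTen₂ R).map (Prod.mkHom (𝟙 (aD ρ))
      ((DRing.restrictD ρ).map (TrivBC.cmp (myAdj ρ) (myAdj α) h W))) ≫
      (lact ρ).app ((DRing.restrictD φ').obj ((DRing.LBaseChange α).obj W)) =
      (lact ρ).app ((DRing.LBaseChange ρ).obj ((DRing.restrictD φ).obj W)) ≫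
        (DRing.restrictD ρ).map (TrivBC.cmp (myAdj ρ) (myAdj α) h W) :=
    lact_naturality (R := R) ρ (TrivBC.cmp (myAdj ρ) (myAdj α) h W)
  rw [sigmaNat_app, Category.assoc, ← reassoc_of% e2, LT_map_comp_assoc, Category.id_comp, e1]
  dsimp only [kW, kp]
  rw [LT_map_comp_assoc, Category.id_comp]

end Main

end Groth.Agent.Lib.Helper5.TBC
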