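import Mathlib
import Groth.Prelude.Def_TrivBC
import Groth.Agent.Lib.Helper5.TBC.ActAssoc
import Groth.Agent.Lib.Helper5.TBC.Formal

/-!
# The base change map of trivial duality and the evaluation map `evalTen` (helper5)

`bcMap` at `K` is an isomorphism iff `evalTen (R'|_R) K (A|_R)` is one.
-/

set_option autoImplicit false
set_option linter.unusedSectionVars false
universe u
open CategoryTheory CategoryTheory.Limits MonoidalCategory DerivedCategory
attribute [local instance] HasDerivedCategory.standard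

namespace Groth.Agent.Lib.Helper5.TBC
open DTen Helper5.Gen Groth.Agent.Lib.Helper5.KProj Groth.Agent.Lib.Helper5.DTenLib

section LT

variable {R : Type u} [CommRing R] [HasLTen R]

lemma LT_comp_left {a a' a'' b : Dual.D R} (f : a ⟶ a') (f' : a' ⟶ a'') :
    (LTen₂ R).map (Prod.mkHom (f ≫ f') (𝟙 b)) =
      (LTen₂ R).map (Prod.mkHom f (𝟙 b)) ≫ (LTen₂ R).map (Prod.mkHom f' (𝟙 b)) := by
  rw [LT_map_comp, Category.id_comp]

lemma LT_comp_right {a b b' b'' : Dual.D R} (g : b ⟶ b') (g' : b' ⟶ b'') :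
    (LTen₂ R).map (Prod.mkHom (𝟙 a) (g ≫ g')) =
      (LTen₂ R).map (Prod.mkHom (𝟙 a) g) ≫ (LTen₂ R).map (Prod.mkHom (𝟙 a) g') := by
  rw [LT_map_comp, Category.id_comp]

end LT

section Theta

variable {R A : Type u} [CommRing R] [CommRing A] {φ : R →+* A}
  [HasLTen R] [HasLTen₃ R] [IsSymMonoidal R] [HasRHom R]
  {Rφ : Dual.D R ⥤ Dual.D A} (adj : DRing.restrictD φ ⊣ Rφ)

/-- the adjunction `(- ⊗^L_R A)|_R ⊣ R Hom(A, -)|_R` -/
noncomputable def adjT : DRing.LBaseChange φ ⋙ DRing.restrictD φ ⊣ Rφ ⋙ DRing.restrictD φ :=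
  (myAdj φ).comp adj

/-- `θ : R Hom(A, Z)|_R ⟶ RHom_R(A|_R, Z)`, natural in `Z ∈ D(R)` -/
noncomputable def thetaNat : Rφ ⋙ DRing.restrictD φ ⟶ RHomR R (aD φ) :=
  conjugateEquiv (adjT adj) (rhomAdj R (aD φ)) (piNat φ)

instance isIso_thetaNat : IsIso (thetaNat adj) := by
  dsimp only [thetaNat]
  infer_instance

instance isIso_thetaNat_app (Z : Dual.D R) : IsIso ((thetaNat adj).app Z) := inferInstance

lemma theta_ev (Z : Dual.D R) :
    (LTen₂ R).map (Prod.mkHom ((thetaNat adj).app Z) (𝟙 (aD φ))) ≫ ev (aD φ) Z =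
      (ract φ).app (Rφ.obj Z) ≫ adj.counit.app Z := by
  have h1 := conjugateEquiv_counit (adjT adj) (rhomAdj R (aD φ)) (piNat φ) Z
  have h2 : (adjT adj).counit.app Z =
      (DRing.restrictD φ).map ((myAdj φ).counit.app (Rφ.obj Z)) ≫ adj.counit.app Z := by
    dsimp only [adjT]
    rw [Adjunction.comp_counit_app]
  have h3 := piNat_counit (R := R) φ (Rφ.obj Z)
  rw [h2] at h1
  refine h1.trans ?_
  rw [← Category.assoc]
  congr 1

end Theta

section Link

variable {R A R' A' : Type u} [CommRing R] [CommRing A] [CommRing R'] [CommRing A']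
  {φ : R →+* A} {ρ : R →+* R'} {α : A →+* A'} {φ' : R' →+* A'} (h : α.comp φ = φ'.comp ρ)
  [HasLTen R] [HasLTen₃ R] [IsSymMonoidal R] [HasRHom R]
  {Rφ : Dual.D R ⥤ Dual.D A} (adj : DRing.restrictD φ ⊣ Rφ)

/-- **the link**: `evalTen` and the restriction of `fK` correspond -/
theorem link (K : Dual.D R) (hc : IsIso (TrivBC.cmp (myAdj ρ) (myAdj α) h (Rφ.obj K))) :
    (LTen₂ R).map (Prod.mkHom (𝟙 (aD ρ)) ((thetaNat adj).app K)) ≫
        evalTen (aD ρ) K (aD φ) ≫ (RHomR R (aD φ)).map ((sigmaNat ρ).app K) =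
      kW h (Rφ.obj K) ≫ (DRing.restrictD φ).map (fK (myAdj ρ) (myAdj α) h adj K hc) ≫
        (thetaNat adj).app ((DRing.restrictD ρ).obj ((DRing.LBaseChange ρ).obj K)) := by
  haveI := hc
  apply ((rhomAdj R (aD φ)).homEquiv _ _).symm.injective
  rw [Adjunction.homEquiv_counit, Adjunction.homEquiv_counit]
  -- the left hand side
  have l1 := (rhomAdj R (aD φ)).counit.naturality ((sigmaNat ρ).app K)
  have l2 := evalTen_fac (aD ρ) K (aD φ)
  have l3 := associator_naturality (𝟙 (aD ρ)) ((thetaNat adj).app K) (𝟙 (aD φ))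
  have l4 := theta_ev adj K
  -- the right hand side
  have r1 := theta_ev adj ((DRing.restrictD ρ).obj ((DRing.LBaseChange ρ).obj K))
  have r2 : (LTen₂ R).map (Prod.mkHom
      ((DRing.restrictD φ).map (fK (myAdj ρ) (myAdj α) h adj K hc)) (𝟙 (aD φ))) ≫
      (ract φ).app (Rφ.obj ((DRing.restrictD ρ).obj ((DRing.LBaseChange ρ).obj K))) =
      (ract φ).app ((DRing.restrictD α).obj ((DRing.LBaseChange α).obj (Rφ.obj K))) ≫
        (DRing.restrictD φ).map (fK (myAdj ρ) (myAdj α) h adj K hc) :=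
    ract_naturality (R := R) φ (fK (myAdj ρ) (myAdj α) h adj K hc)
  have r3 : (DRing.restrictD φ).map (fK (myAdj ρ) (myAdj α) h adj K hc) ≫
      adj.counit.app ((DRing.restrictD ρ).obj ((DRing.LBaseChange ρ).obj K)) =
      mK (myAdj ρ) (myAdj α) h adj K hc := by
    have := adj.homEquiv_counit (g := fK (myAdj ρ) (myAdj α) h adj K hc)
    rw [← this]
    dsimp only [fK]
    rw [Equiv.symm_apply_apply]
  have r4 := act_comm_kW h (Rφ.obj K)
  have r5 := kW_eq h (Rφ.obj K)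
  have r6 := (sigmaNat ρ).naturality (adj.counit.app K)
  -- the key identity
  have key : kW h (Rφ.obj K) ≫ mK (myAdj ρ) (myAdj α) h adj K hc =
      (LTen₂ R).map (Prod.mkHom (𝟙 (aD ρ)) (adj.counit.app K)) ≫ (sigmaNat ρ).app K := by
    rw [r5]
    dsimp only [mK, epsK]
    simp only [Category.assoc, Iso.inv_hom_id_app_assoc]
    rw [← Functor.map_comp, IsIso.hom_inv_id_assoc]
    exact r6.symm
  show (LTen₂ R).map (Prod.mkHom ((LTen₂ R).map (Prod.mkHom (𝟙 (aD ρ)) ((thetaNat adj).app K)) ≫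
        evalTen (aD ρ) K (aD φ) ≫ (RHomR R (aD φ)).map ((sigmaNat ρ).app K)) (𝟙 (aD φ))) ≫
      ev (aD φ) ((DRing.restrictD ρ).obj ((DRing.LBaseChange ρ).obj K)) =
    (LTen₂ R).map (Prod.mkHom (kW h (Rφ.obj K) ≫
        (DRing.restrictD φ).map (fK (myAdj ρ) (myAdj α) h adj K hc) ≫
        (thetaNat adj).app ((DRing.restrictD ρ).obj ((DRing.LBaseChange ρ).obj K))) (𝟙 (aD φ))) ≫
      ev (aD φ) ((DRing.restrictD ρ).obj ((DRing.LBaseChange ρ).obj K))
  have l1' : (LTen₂ R).map (Prod.mkHom ((RHomR R (aD φ)).map ((sigmaNat ρ).app K)) (𝟙 (aD φ))) ≫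
      ev (aD φ) ((DRing.restrictD ρ).obj ((DRing.LBaseChange ρ).obj K)) =
      ev (aD φ) ((LTen₂ R).obj (aD ρ, K)) ≫ (sigmaNat ρ).app K := l1
  have M1 : (LTen₂ R).map (Prod.mkHom ((LTen₂ R).map (Prod.mkHom (𝟙 (aD ρ)) ((thetaNat adj).app K)) ≫
        evalTen (aD ρ) K (aD φ) ≫ (RHomR R (aD φ)).map ((sigmaNat ρ).app K)) (𝟙 (aD φ))) ≫
      ev (aD φ) ((DRing.restrictD ρ).obj ((DRing.LBaseChange ρ).obj K)) =
      (DTen.associator (aD ρ) ((DRing.restrictD φ).obj (Rφ.obj K)) (aD φ)).hom ≫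
        (LTen₂ R).map (Prod.mkHom (𝟙 (aD ρ)) ((ract φ).app (Rφ.obj K))) ≫
        (LTen₂ R).map (Prod.mkHom (𝟙 (aD ρ)) (adj.counit.app K)) ≫ (sigmaNat ρ).app K := by
    rw [LT_comp_left, LT_comp_left, Category.assoc, Category.assoc, l1', reassoc_of% l2]
    dsimp only [evalTenAux]
    rw [Category.assoc, reassoc_of% l3, LT_map_comp_assoc, Category.id_comp, l4, LT_comp_right,
      Category.assoc]
  have M2 : (LTen₂ R).map (Prod.mkHom (kW h (Rφ.obj K) ≫
        (DRing.restrictD φ).map (fK (myAdj ρ) (myAdj α) h adj K hc) ≫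
        (thetaNat adj).app ((DRing.restrictD ρ).obj ((DRing.LBaseChange ρ).obj K))) (𝟙 (aD φ))) ≫
      ev (aD φ) ((DRing.restrictD ρ).obj ((DRing.LBaseChange ρ).obj K)) =
      (DTen.associator (aD ρ) ((DRing.restrictD φ).obj (Rφ.obj K)) (aD φ)).hom ≫
        (LTen₂ R).map (Prod.mkHom (𝟙 (aD ρ)) ((ract φ).app (Rφ.obj K))) ≫
        (LTen₂ R).map (Prod.mkHom (𝟙 (aD ρ)) (adj.counit.app K)) ≫ (sigmaNat ρ).app K := by
    rw [LT_comp_left, LT_comp_left, Category.assoc, Category.assoc, r1, reassoc_of% r2, r3,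
      ← reassoc_of% r4, key]
  exact M1.trans M2.symm

/-- `evalTen (R'|_R) K (A|_R)` is an isomorphism iff the restriction of `fK` is one -/
theorem isIso_evalTen_iff (K : Dual.D R)
    (hc : IsIso (TrivBC.cmp (myAdj ρ) (myAdj α) h (Rφ.obj K))) :
    IsIso (evalTen (aD ρ) K (aD φ)) ↔
      IsIso ((DRing.restrictD φ).map (fK (myAdj ρ) (myAdj α) h adj K hc)) := by
  haveI := hc
  have e := link h adj K hc
  haveI : IsIso (kW h (Rφ.obj K)) := by
    rw [kW_eq]
    infer_instance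
  constructor
  · intro hE
    haveI : IsIso (kW h (Rφ.obj K) ≫
        (DRing.restrictD φ).map (fK (myAdj ρ) (myAdj α) h adj K hc) ≫
        (thetaNat adj).app ((DRing.restrictD ρ).obj ((DRing.LBaseChange ρ).obj K))) := by
      rw [← e]
      infer_instance
    haveI : IsIso ((DRing.restrictD φ).map (fK (myAdj ρ) (myAdj α) h adj K hc) ≫
        (thetaNat adj).app ((DRing.restrictD ρ).obj ((DRing.LBaseChange ρ).obj K))) :=
      IsIso.of_isIso_comp_left (kW h (Rφ.obj K)) _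
    exact IsIso.of_isIso_comp_right _
      ((thetaNat adj).app ((DRing.restrictD ρ).obj ((DRing.LBaseChange ρ).obj K)))
  · intro hF
    haveI : IsIso ((LTen₂ R).map (Prod.mkHom (𝟙 (aD ρ)) ((thetaNat adj).app K)) ≫
        evalTen (aD ρ) K (aD φ) ≫ (RHomR R (aD φ)).map ((sigmaNat ρ).app K)) := by
      rw [e]
      infer_instance
    haveI : IsIso (evalTen (aD ρ) K (aD φ) ≫ (RHomR R (aD φ)).map ((sigmaNat ρ).app K)) :=
      IsIso.of_isIso_comp_left
        ((LTen₂ R).map (Prod.mkHom (𝟙 (aD ρ)) ((thetaNat adj).app K))) _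
    exact IsIso.of_isIso_comp_right _ ((RHomR R (aD φ)).map ((sigmaNat ρ).app K))

end Link

section Conservative

variable {R A : Type u} [CommRing R] [CommRing A] (φ : R →+* A)

/-- restriction of scalars on derived categories reflects isomorphisms -/
theorem isIso_of_isIso_restrictD_map {X Y : Dual.D A} (f : X ⟶ Y)
    (hf : IsIso ((DRing.restrictD φ).map f)) : IsIso f := by
  apply Helper5.Shriek.isIso_of_unit_shift_bijective
  intro j
  have key : ∀ {Z Z' : Dual.D A} (g : Z ⟶ Z') (k : (Dual.inD A A)⟦j⟧ ⟶ Z),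
      (myAdj φ).homEquiv _ _ ((lbcUnIso φ j).hom ≫ k ≫ g) =
        (myAdj φ).homEquiv _ _ ((lbcUnIso φ j).hom ≫ k) ≫ (DRing.restrictD φ).map g := by
    intro Z Z' g k
    rw [← Adjunction.homEquiv_naturality_right, Category.assoc]
  constructor
  · intro k₁ k₂ hk
    dsimp only at hk
    have h1 := key f k₁
    have h2 := key f k₂
    rw [hk] at h1
    have h3 := (cancel_mono ((DRing.restrictD φ).map f)).1 (h1.symm.trans h2)
    have h4 := ((myAdj φ).homEquiv _ _).injective h3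
    exact (cancel_epi (lbcUnIso φ j).hom).1 h4
  · intro y
    let g : Q.obj (Un (R := R) j) ⟶ (DRing.restrictD φ).obj X :=
      (myAdj φ).homEquiv _ _ ((lbcUnIso φ j).hom ≫ y) ≫ inv ((DRing.restrictD φ).map f)
    refine ⟨(lbcUnIso φ j).inv ≫ ((myAdj φ).homEquiv _ _).symm g, ?_⟩
    dsimp only
    apply (cancel_epi (lbcUnIso φ j).hom).1
    apply ((myAdj φ).homEquiv _ _).injective
    rw [key f, Iso.hom_inv_id_assoc, Equiv.apply_symm_apply]
    dsimp only [g]
    rw [Category.assoc, IsIso.inv_hom_id, Category.comp_id]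

end Conservative

section Formal2

variable {R A R' A' : Type u} [CommRing R] [CommRing A] [CommRing R'] [CommRing A']
  {φ : R →+* A} {ρ : R →+* R'} {α : A →+* A'} {φ' : R' →+* A'}
  (adjρ : DRing.LBaseChange ρ ⊣ DRing.restrictD ρ)
  (adjα : DRing.LBaseChange α ⊣ DRing.restrictD α)
  (h : α.comp φ = φ'.comp ρ) {Rφ : Dual.D R ⥤ Dual.D A} (adj : DRing.restrictD φ ⊣ Rφ)
  {Rφ' : Dual.D R' ⥤ Dual.D A'} (adj' : DRing.restrictD φ' ⊣ Rφ')

/-- the converse of the formal reduction: if `bcMap` is an isomorphism, so is `fK` -/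
theorem isIso_fK_of_isIso_bcMap (K : Dual.D R)
    (hc : IsIso (TrivBC.cmp adjρ adjα h (Rφ.obj K)))
    (hcmpAll : ∀ C : Dual.D A, IsIso (TrivBC.cmp adjρ adjα h C))
    (hb : IsIso (TrivBC.bcMap adjρ adjα h adj adj' K hc)) :
    IsIso (fK adjρ adjα h adj K hc) := by
  apply isIso_of_yoneda_map_bijective
  intro C
  haveI := hcmpAll C
  have key2 : ∀ g : (DRing.LBaseChange α).obj C ⟶ (DRing.LBaseChange α).obj (Rφ.obj K),
      g ≫ TrivBC.bcMap adjρ adjα h adj adj' K hc =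
        adj'.homEquiv _ _ ((DRing.restrictD φ').map g ≫ epsK adjρ adjα h adj K hc) := by
    intro g
    rw [bcMap_eq, adj'.homEquiv_naturality_left]
  constructor
  · intro g₁ g₂ hg
    dsimp only at hg
    have h1 := comp_fK adjρ adjα h adj K hc C ((adjα.homEquiv _ _).symm g₁)
    have h2 := comp_fK adjρ adjα h adj K hc C ((adjα.homEquiv _ _).symm g₂)
    rw [Equiv.apply_symm_apply] at h1 h2
    have h3 := (adjρ.homEquiv _ _).injective ((adj.homEquiv _ _).injective
      (h1.symm.trans (hg.trans h2)))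
    have h4 := (cancel_epi (TrivBC.cmp adjρ adjα h C)).1 h3
    have h5 : (adjα.homEquiv _ _).symm g₁ ≫ TrivBC.bcMap adjρ adjα h adj adj' K hc =
        (adjα.homEquiv _ _).symm g₂ ≫ TrivBC.bcMap adjρ adjα h adj adj' K hc := by
      rw [key2, key2, h4]
    exact (adjα.homEquiv _ _).symm.injective
      ((cancel_mono (TrivBC.bcMap adjρ adjα h adj adj' K hc)).1 h5)
  · intro y
    let t' : (DRing.restrictD φ').obj ((DRing.LBaseChange α).obj C) ⟶
        (DRing.LBaseChange ρ).obj K :=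
      inv (TrivBC.cmp adjρ adjα h C) ≫
        (adjρ.homEquiv _ _).symm ((adj.homEquiv _ _).symm y)
    let g : (DRing.LBaseChange α).obj C ⟶ (DRing.LBaseChange α).obj (Rφ.obj K) :=
      adj'.homEquiv _ _ t' ≫ inv (TrivBC.bcMap adjρ adjα h adj adj' K hc)
    have h1 : (DRing.restrictD φ').map g ≫ epsK adjρ adjα h adj K hc = t' := by
      apply (adj'.homEquiv _ _).injective
      rw [← key2]
      dsimp only [g]
      rw [Category.assoc, IsIso.inv_hom_id, Category.comp_id]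
    refine ⟨adjα.homEquiv _ _ g, ?_⟩
    dsimp only
    rw [comp_fK, h1]
    dsimp only [t']
    rw [IsIso.hom_inv_id_assoc, Equiv.apply_symm_apply, Equiv.apply_symm_apply]

end Formal2

section Final

variable {R A R' A' : Type u} [CommRing R] [CommRing A] [CommRing R'] [CommRing A']
  {φ : R →+* A} {ρ : R →+* R'} {α : A →+* A'} {φ' : R' →+* A'} (h : α.comp φ = φ'.comp ρ)
  [HasLTen R] [HasLTen₃ R] [IsSymMonoidal R] [HasRHom R]

/-- **base change for trivial duality and the evaluation map**: if the comparison `cmp` is an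
isomorphism on all of `D(A)`, then the base change map of trivial duality at `K` is an
isomorphism iff `R'|_R ⊗^L RHom_R(A|_R, K) ⟶ RHom_R(A|_R, R'|_R ⊗^L K)` is one -/
theorem isIso_bcMap_iff_isIso_evalTen
    (hcmpAll : ∀ X : Dual.D A, IsIso (TrivBC.cmp (myAdj ρ) (myAdj α) h X))
    (adjρ : DRing.LBaseChange ρ ⊣ DRing.restrictD ρ)
    (adjα : DRing.LBaseChange α ⊣ DRing.restrictD α)
    {Rφ : Dual.D R ⥤ Dual.D A} (adj : DRing.restrictD φ ⊣ Rφ)
    {Rφ' : Dual.D R' ⥤ Dual.D A'} (adj' : DRing.restrictD φ' ⊣ Rφ') (K : Dual.D R)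
    (hc : IsIso (TrivBC.cmp adjρ adjα h (Rφ.obj K))) :
    IsIso (TrivBC.bcMap adjρ adjα h adj adj' K hc) ↔ IsIso (evalTen (aD ρ) K (aD φ)) := by
  have hc0 := hcmpAll (Rφ.obj K)
  have A1 : IsIso (TrivBC.bcMap adjρ adjα h adj adj' K hc) ↔
      IsIso (TrivBC.bcMap (myAdj ρ) (myAdj α) h adj adj' K hc0) :=
    ⟨isIso_bcMap_of_adj adjρ adjα h adj adj' (myAdj ρ) (myAdj α) K hc hc0,
      isIso_bcMap_of_adj (myAdj ρ) (myAdj α) h adj adj' adjρ adjα K hc0 hc⟩
  have A2 : IsIso (TrivBC.bcMap (myAdj ρ) (myAdj α) h adj adj' K hc0) ↔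
      IsIso (fK (myAdj ρ) (myAdj α) h adj K hc0) :=
    ⟨fun hb => isIso_fK_of_isIso_bcMap (myAdj ρ) (myAdj α) h adj adj' K hc0 hcmpAll hb,
      fun hf => isIso_bcMap_of_isIso_fK (myAdj ρ) (myAdj α) h adj adj' K hc0 hf
        (fun j => ⟨Q.obj (Un (R := A) j), lbcUnIso α j, hcmpAll _⟩)⟩
  have A3 : IsIso (fK (myAdj ρ) (myAdj α) h adj K hc0) ↔
      IsIso ((DRing.restrictD φ).map (fK (myAdj ρ) (myAdj α) h adj K hc0)) :=
    ⟨fun _ => inferInstance, isIso_of_isIso_restrictD_map φ _⟩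
  exact A1.trans (A2.trans (A3.trans (isIso_evalTen_iff h adj K hc0).symm))

end Final

end Groth.Agent.Lib.Helper5.TBC
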