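import Mathlib
import Groth.Agent.Lib.Helper5.TBC.Pushout
import Groth.Agent.Lib.Helper5.TBC.EvalLink
import Groth.Agent.Lib.Helper5.DTenLib.Binders
import Groth.Agent.Lib.Helper5.EvHom.EvTenM
import Groth.Agent.Lib.Helper5.TorAmp.TorDim

/-!
# Base change for trivial duality: `A` pseudo-coherent, `R'` of finite tor dimension (helper5)
-/

set_option autoImplicit false
set_option linter.unusedSectionVars false
set_option linter.unusedVariables false
set_option linter.style.haveILetI false
universe u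
open CategoryTheory CategoryTheory.Limits MonoidalCategory
attribute [local instance] HasDerivedCategory.standard

namespace Groth.Agent.Lib.Helper5.TBC

open DTen DerivedCategory Groth.Agent.Lib.Helper5.DTenLib Groth.Agent.Lib.Helper5.EvHom

section

variable (R A : Type u) [CommRing R] [CommRing A] [Algebra R A]

/-- `A` as an `R`-module through restriction of scalars -/
noncomputable def modIso :
    (ModuleCat.restrictScalars.{u} (algebraMap R A)).obj (𝟙_ (ModuleCat.{u} A)) ≅
      ModuleCat.of R A where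
  hom := ModuleCat.ofHom (X := (ModuleCat.restrictScalars.{u} (algebraMap R A)).obj
      (𝟙_ (ModuleCat.{u} A))) (Y := ModuleCat.of R A)
    { toFun := fun x => (show A from x)
      map_add' := fun _ _ => rfl
      map_smul' := fun r x => (Algebra.smul_def r (show A from x)).symm }
  inv := ModuleCat.ofHom (X := ModuleCat.of R A)
      (Y := (ModuleCat.restrictScalars.{u} (algebraMap R A)).obj (𝟙_ (ModuleCat.{u} A)))
    { toFun := fun x => (show A from x)
      map_add' := fun _ _ => rfl
      map_smul' := fun r x => Algebra.smul_def r (show A from x) }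
  hom_inv_id := by
    ext x
    rfl
  inv_hom_id := by
    ext x
    rfl

/-- `A|_R ≅ A[0]` in `D(R)` -/
noncomputable def aDIso : aD (algebraMap R A) ≅ Dual.inD R A :=
  (resFactors (algebraMap R A)).app (𝟙_ (DRing.Cx A)) ≪≫
    Q.mapIso ((HomologicalComplex.singleMapHomologicalComplex
      (ModuleCat.restrictScalars.{u} (algebraMap R A)) (ComplexShape.up ℤ) 0).app
        (𝟙_ (ModuleCat.{u} A))) ≪≫
    Q.mapIso ((HomologicalComplex.single (ModuleCat.{u} R) (ComplexShape.up ℤ) 0).mapIso
      (modIso R A)) ≪≫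
    ((singleFunctorIsoCompQ (ModuleCat.{u} R) 0).app (ModuleCat.of R A)).symm

end

theorem isIso_bcMap_of_pc_fin (R A R' A' : Type u) [CommRing R] [CommRing A] [CommRing R']
    [CommRing A'] [Algebra R A] [Algebra R R'] [Algebra A A'] [Algebra R' A'] [Algebra R A']
    [IsScalarTower R A A'] [IsScalarTower R R' A'] [Algebra.IsPushout R A R' A']
    (hpc : DRing.IsPseudoCoherentModule' R A)
    (hfd : DRing.HasFiniteTorDim R R')
    (htor : ∀ p : ℕ, 1 ≤ p → Subsingleton (DRing.Tor R p A R'))
    (adjρ : DRing.LBaseChange (algebraMap R R') ⊣ DRing.restrictD (algebraMap R R'))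
    (adjα : DRing.LBaseChange (algebraMap A A') ⊣ DRing.restrictD (algebraMap A A'))
    (h : (algebraMap A A').comp (algebraMap R A) = (algebraMap R' A').comp (algebraMap R R'))
    (Rφ : Dual.D R ⥤ Dual.D A) (adj : DRing.restrictD (algebraMap R A) ⊣ Rφ)
    (Rφ' : Dual.D R' ⥤ Dual.D A') (adj' : DRing.restrictD (algebraMap R' A') ⊣ Rφ')
    (K : Dual.D R) (n : ℤ) [K.IsGE n] (hc : IsIso (TrivBC.cmp adjρ adjα h (Rφ.obj K))) :
    IsIso (TrivBC.bcMap adjρ adjα h adj adj' K hc) := by
  haveI := hasLTen_all R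
  haveI := hasLTen₃_all R
  haveI := isSymMonoidal_all R
  haveI := hasRHom_all R
  rw [isIso_bcMap_iff_isIso_evalTen h
    (fun X => isIso_cmp h (isCocart_of_isPushout R A R' A' h) (torIndep_of_tor R A R' htor)
      (myAdj (algebraMap R R')) (myAdj (algebraMap A A')) X)
    adjρ adjα adj adj' K hc]
  obtain ⟨d, hd⟩ := hfd
  have hU0 : DRing.HasTorAmplitudeIn R (-(d : ℤ)) 0 (Dual.inD R R') :=
    (Groth.Agent.Helper5.TorAmp.s6946 R' d).1.1 hd
  have hU : DRing.HasTorAmplitudeIn R (-(d : ℤ)) 0 (aD (algebraMap R R')) := by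
    obtain ⟨E, h1, h2, ⟨e⟩⟩ := hU0
    exact ⟨E, h1, h2, ⟨e ≪≫ (aDIso R R').symm⟩⟩
  have hM : DRing.IsPseudoCoherent' R (aD (algebraMap R A)) := by
    obtain ⟨E, b, h1, h2, ⟨e⟩⟩ := hpc
    exact ⟨E, b, h1, h2, ⟨e ≪≫ (aDIso R A).symm⟩⟩
  exact isIso_evalTen_of_pseudoCoherent_M _ K _ (-(d : ℤ)) 0 hU n hM

end Groth.Agent.Lib.Helper5.TBC
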